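/-
A computable model of the field with four elements.
-/
import Mathlib

set_option autoImplicit false

namespace CfsgLib.Classical.SmallIso

/-- `fst + snd ω` with `ω² = ω + 1` over the field with two elements. -/
structure W4 where
  fst : ZMod 2
  snd : ZMod 2
deriving DecidableEq, Fintype

namespace W4

instance instZeroW4 : Zero W4 := ⟨⟨0, 0⟩⟩
instance instOneW4 : One W4 := ⟨⟨1, 0⟩⟩
instance instAddW4 : Add W4 := ⟨fun x y => ⟨x.fst + y.fst, x.snd + y.snd⟩⟩
instance instNegW4 : Neg W4 := ⟨fun x => x⟩
instance instMulW4 : Mul W4 :=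
  ⟨fun x y => ⟨x.fst * y.fst + x.snd * y.snd, x.fst * y.snd + x.snd * y.fst + x.snd * y.snd⟩⟩

instance instCommRingW4 : CommRing W4 where
  add_assoc := by decide +kernel
  zero_add := by decide +kernel
  add_zero := by decide +kernel
  add_comm := by decide +kernel
  left_distrib := by decide +kernel
  right_distrib := by decide +kernel
  zero_mul := by decide +kernel
  mul_zero := by decide +kernel
  mul_assoc := by decide +kernel
  one_mul := by decide +kernel
  mul_one := by decide +kernel
  neg_add_cancel := by decide +kernel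
  mul_comm := by decide +kernel
  nsmul := nsmulRec
  zsmul := zsmulRec

/-- The square. -/
def sq : W4 →+* W4 where
  toFun x := x * x
  map_one' := by decide
  map_mul' := by decide +kernel
  map_zero' := by decide
  map_add' := by decide +kernel

/-- The generator. -/
def w : W4 := ⟨0, 1⟩

theorem exists_unit_or_zero : ∀ x : W4, x = 0 ∨ ∃ y, x * y = 1 := by decide +kernel

variable {F : Type*} [Field F] [Fintype F]

theorem exists_omega (hF : Fintype.card F = 4) : ∃ ω : F, ω * ω = ω + 1 ∧ (2 : F) = 0 := by
  classical
  haveI : CharP F 2 := ringChar.of_eq (FiniteField.even_card_iff_char_two.2 (by rw [hF]))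
  obtain ⟨ω, h0, h1⟩ : ∃ ω : F, ω ≠ 0 ∧ ω ≠ 1 := by
    by_contra hc
    push Not at hc
    have := Finset.card_le_card (fun x (_ : x ∈ (Finset.univ : Finset F)) =>
      (show x ∈ ({0, 1} : Finset F) by by_cases h : x = 0 <;> simp [h, hc x]))
    rw [Finset.card_univ, hF] at this
    exact absurd (this.trans Finset.card_le_two) (by norm_num)
  refine ⟨ω, ?_, CharTwo.two_eq_zero⟩
  have h3 := FiniteField.pow_card_sub_one_eq_one ω h0
  rw [hF] at h3
  have : (ω - 1) * (ω * ω + ω + 1) = 0 := by linear_combination h3
  have h4 := (mul_eq_zero.1 this).resolve_left (sub_ne_zero.2 h1)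
  linear_combination h4 - (ω + 1) * (CharTwo.two_eq_zero (R := F))

/-- The model maps onto any field with four elements. -/
theorem exists_hom (hF : Fintype.card F = 4) :
    ∃ φ : W4 →+* F, Function.Injective φ ∧ ∀ x, φ (sq x) = φ x ^ 2 := by
  obtain ⟨ω, hω, h2⟩ := exists_omega hF
  haveI : CharP F 2 := CharTwo.of_one_ne_zero_of_two_eq_zero one_ne_zero h2
  let c : ZMod 2 →+* F := ZMod.castHom (dvd_refl 2) F
  let φ : W4 →+* F :=
    { toFun := fun x => c x.fst + c x.snd * ω
      map_one' := by show c 1 + c 0 * ω = 1; simp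
      map_zero' := by show c 0 + c 0 * ω = 0; simp
      map_add' := fun x y => by
        show c (x.fst + y.fst) + c (x.snd + y.snd) * ω = _
        rw [map_add, map_add]; ring
      map_mul' := fun x y => by
        show c (x.fst * y.fst + x.snd * y.snd) + c (x.fst * y.snd + x.snd * y.fst + x.snd * y.snd) * ω = _
        simp only [map_add, map_mul]
        linear_combination -(c x.snd * c y.snd) * hω }
  refine ⟨φ, (injective_iff_map_eq_zero φ).2 fun x hx => ?_, fun x => by
    show φ (x * x) = _
    rw [map_mul, pow_two]⟩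
  by_contra h
  obtain ⟨y, hy⟩ := (exists_unit_or_zero x).resolve_left h
  exact one_ne_zero ((map_one φ).symm.trans (by rw [← hy, map_mul, hx, zero_mul]))

end W4

end CfsgLib.Classical.SmallIso
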