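/-
`O⁻_4(2) ≅ S_5`: the action on the five singular points.
-/
import Cfsg.Agent.Lib.Classical.QuadPOmega
import Cfsg.Agent.Lib.Classical.QuadStd

set_option autoImplicit false

namespace CfsgLib.Classical.SmallIso

open Matrix Cfsg

variable {F : Type*} [Field F] [Fintype F]

theorem eq_zero_or_one_of_card_two (hF : Fintype.card F = 2) (x : F) : x = 0 ∨ x = 1 := by
  by_cases hx : x = 0
  · exact Or.inl hx
  · right
    have h := FiniteField.pow_card_sub_one_eq_one x hx
    rwa [hF, pow_one] at h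

theorem minus_four_two (hF : Fintype.card F = 2) :
    Nonempty (isometryGroup F (quadFormMinus 1 F 1 1) ≃* Equiv.Perm (Fin 5)) := by
  classical
  haveI : CharP F 2 := ringChar.of_eq (FiniteField.even_card_iff_char_two.2 (by rw [hF]))
  have hab : BinAniso (1 : F) 1 := by
    intro x y h
    rcases eq_zero_or_one_of_card_two hF x with rfl | rfl <;>
      rcases eq_zero_or_one_of_card_two hF y with rfl | rfl <;> simp_all [CharTwo.add_self_eq_zero]
  rw [← coe_qExt_qBin]
  set Q := qExt 1 (qBin (1 : F) 1) with hQ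
  let T := {v : (Fin 1 ⊕ Fin 1) ⊕ Fin 2 → F // Q v = 0 ∧ v ≠ 0}
  let act : MulAction (isometryGroup F ⇑Q) T :=
    { smul := fun g v => ⟨isoApply g v.1, (isoApply_Q g v.1).trans v.2.1, fun h => v.2.2 (by
        rw [← isoApply_inv_apply g v.1, h]; exact Matrix.mulVec_zero _)⟩
      one_smul := fun v => Subtype.ext (isoApply_one v.1)
      mul_smul := fun g h v => Subtype.ext (isoApply_mul g h v.1) }
  have hT : Nat.card T = 5 := by
    have hz := zeros_minus (F := F) hab 1
    rw [hF] at hz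
    have h6 : zeros Q = 6 := by exact_mod_cast (by rw [hQ, hz]; norm_num : (zeros Q : ℤ) = 6)
    rw [zeros, Nat.card_eq_fintype_card] at h6
    rw [Nat.card_eq_fintype_card,
      Fintype.card_congr ((Equiv.subtypeSubtypeEquivSubtypeInter (fun v => Q v = 0) (fun v => v ≠ 0)).symm),
      Fintype.card_subtype_compl, h6]
    rw [Fintype.card_eq_one_iff.2 (⟨⟨⟨0, QuadraticMap.map_zero Q⟩, rfl⟩, fun v => Subtype.ext (Subtype.ext v.2)⟩ :
      ∃ x : {x : {v : (Fin 1 ⊕ Fin 1) ⊕ Fin 2 → F // Q v = 0} // (x : (Fin 1 ⊕ Fin 1) ⊕ Fin 2 → F) = 0}, ∀ y, y = x)]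
  haveI : Fintype T := Fintype.ofFinite _
  let e : T ≃ Fin 5 := Fintype.equivFinOfCardEq (by rw [← Nat.card_eq_fintype_card, hT])
  let f := e.permCongrHom.toMonoidHom.comp (@MulAction.toPermHom (isometryGroup F ⇑Q) T _ act)
  have hinj : Function.Injective f := by
    refine e.permCongrHom.injective.comp ((injective_iff_map_eq_one _).2 fun g hg => iso_ext fun v => ?_)
    have hfix : ∀ w : (Fin 1 ⊕ Fin 1) ⊕ Fin 2 → F, Q w = 0 → w ≠ 0 → isoApply g w = w := fun w h0 hne =>
      congrArg Subtype.val (Equiv.congr_fun hg (⟨w, h0, hne⟩ : T))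
    let vec : F → F → F → F → ((Fin 1 ⊕ Fin 1) ⊕ Fin 2 → F) := fun x y z w =>
      Sum.elim (Sum.elim (fun _ => x) fun _ => y) ![z, w]
    have hv : ∀ x y z w, Q (vec x y z w) = x * y + (z ^ 2 + 1 * z * w + 1 * w ^ 2) := fun x y z w => by
      rw [hQ, coe_qExt_qBin]; simp [quadFormMinus, vec]
    have h1 := hfix (vec 1 0 0 0) (by rw [hv]; ring) (fun h => one_ne_zero (congrFun h (.inl (.inl 0))))
    have h2 := hfix (vec 0 1 0 0) (by rw [hv]; ring) (fun h => one_ne_zero (congrFun h (.inl (.inr 0))))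
    have h3 := hfix (vec 1 1 1 0) (by rw [hv]; ring_nf; exact CharTwo.two_eq_zero)
      (fun h => one_ne_zero (congrFun h (.inl (.inl 0))))
    have h4 := hfix (vec 1 1 0 1) (by rw [hv]; ring_nf; exact CharTwo.two_eq_zero)
      (fun h => one_ne_zero (congrFun h (.inl (.inl 0))))
    have hdec : v = v (.inl (.inl 0)) • vec 1 0 0 0 + v (.inl (.inr 0)) • vec 0 1 0 0 +
        v (.inr 0) • (vec 1 1 1 0 - vec 1 0 0 0 - vec 0 1 0 0) +
        v (.inr 1) • (vec 1 1 0 1 - vec 1 0 0 0 - vec 0 1 0 0) := by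
      funext i
      rcases i with (i | i) | i <;> fin_cases i <;> simp [vec]
    rw [isoApply_one, hdec]
    simp only [isoApply, Matrix.mulVec_add, Matrix.mulVec_smul, Matrix.mulVec_sub] at h1 h2 h3 h4 ⊢
    rw [h1, h2, h3, h4]
  have hcard : Nat.card (isometryGroup F ⇑Q) = Nat.card (Equiv.Perm (Fin 5)) := by
    rw [Nat.card_congr (isoEquiv Q).toEquiv, hQ, card_qAut_minus hab 1, hF, Finset.prod_range_one, Nat.card_perm,
      Nat.card_fin]
    rfl
  exact ⟨MulEquiv.ofBijective f ((Nat.bijective_iff_injective_and_card f).2 ⟨hinj, hcard⟩)⟩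

end CfsgLib.Classical.SmallIso
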