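/-
Tools to identify `PΩ` of a small quadratic space with a given group.
-/
import Cfsg.Agent.Lib.Classical.QuadPOmega

set_option autoImplicit false

namespace CfsgLib.Classical.SmallIso

open Matrix Cfsg
open scoped commutatorElement

variable {F : Type*} [Field F] {ι : Type} [Fintype ι] [DecidableEq ι]

/-- A linear action preserving the image of a coordinate system gives a map to the isometry group. -/
theorem exists_iso_hom {G W : Type*} [Group G] [AddCommGroup W] [Module F W] (Q : QuadraticForm F (ι → F))
    (E : (ι → F) →ₗ[F] W) (hE : Function.Injective E) (ρ : G →* Module.End F W) (P : W → F)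
    (hP : ∀ v, P (E v) = Q v) (hinv : ∀ g w, P (ρ g w) = P w)
    (hrange : ∀ g v, ρ g (E v) ∈ LinearMap.range E) :
    ∃ φ : G →* isometryGroup F ⇑Q, ∀ g v, E (isoApply (φ g) v) = ρ g (E v) := by
  classical
  choose f hf using fun g v => LinearMap.mem_range.1 (hrange g v)
  let L : G → ((ι → F) →ₗ[F] (ι → F)) := fun g =>
    { toFun := f g
      map_add' := fun u v => hE (by rw [map_add, hf, hf, hf, map_add, map_add])
      map_smul' := fun c v => hE (by rw [RingHom.id_apply, map_smul, hf, hf, map_smul, map_smul]) }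
  have hinj : ∀ g, Function.Injective (L g) := fun g u v h => hE (by
    have h1 : ρ g (E u) = ρ g (E v) := (hf g u).symm.trans ((congrArg E h).trans (hf g v))
    have h2 := congrArg (ρ g⁻¹) h1
    rwa [← Module.End.mul_apply, ← Module.End.mul_apply, ← map_mul, inv_mul_cancel, map_one,
      Module.End.one_apply, Module.End.one_apply] at h2)
  have hQ : ∀ g v, Q (L g v) = Q v := fun g v => by
    rw [← hP, show E (L g v) = ρ g (E v) from hf g v, hinv, hP]
  have key : ∀ g v, E (isoApply (isoMk (Q := ⇑Q) (L g) (hinj g) (hQ g)) v) = ρ g (E v) := fun g v => by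
    rw [isoMk_apply]; exact hf g v
  exact ⟨MonoidHom.mk' (fun g => isoMk (Q := ⇑Q) (L g) (hinj g) (hQ g)) fun g h =>
    iso_ext fun v => hE (by rw [isoApply_mul, key, key, key, map_mul, Module.End.mul_apply]), key⟩

theorem range_le_Omega_of_perfect {G : Type*} [Group G] (Q : (ι → F) → F) (φ : G →* isometryGroup F Q)
    (h : commutator G = ⊤) : φ.range ≤ Omega F Q := by
  rw [MonoidHom.range_eq_map, ← h, commutator_def, Subgroup.map_commutator]
  exact (Subgroup.commutator_mono le_top le_top).trans (le_of_eq (commutator_def _).symm)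

/-- Elements of odd order lie in `Ω` as soon as its index is a power of two. -/
theorem mem_Omega_of_pow_eq_one {G : Type*} [Group G] (Q : (ι → F) → F) (φ : G →* isometryGroup F Q)
    {k : ℕ} (hk : (Omega F Q).index = 2 ^ k) {x : G} {n : ℕ} (hn : Odd n) (hx : x ^ n = 1) :
    φ x ∈ Omega F Q := by
  rw [← QuotientGroup.eq_one_iff]
  haveI : Finite (isometryGroup F Q ⧸ Omega F Q) :=
    Nat.finite_of_card_ne_zero (by rw [← Subgroup.index_eq_card, hk]; exact (Nat.two_pow_pos k).ne')
  refine orderOf_eq_one_iff.1 (Nat.eq_one_of_dvd_coprimes (Nat.Coprime.pow_left k ?_)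
    (hk ▸ Subgroup.index_eq_card (Omega F Q) ▸ orderOf_dvd_natCard _)
    (orderOf_dvd_of_pow_eq_one (n := n) (by rw [← QuotientGroup.mk_pow, ← map_pow, hx, map_one, QuotientGroup.mk_one])))
  exact hn.coprime_two_left

/-- Recognition of `PΩ`. -/
theorem nonempty_POmega_equiv [Fintype F] (Q : (ι → F) → F) {G P : Type*} [Group G] [Finite G] [Group P]
    (φ : G →* isometryGroup F Q) (π : G →* P) (hπ : Function.Surjective π) (hker : φ.ker ≤ π.ker)
    (hπc : π.ker ≤ Subgroup.center G) (hcen : Subgroup.center P = ⊥) (hle : φ.range ≤ Omega F Q)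
    {k : ℕ} (hk : (Omega F Q).index = k)
    (hcard : Nat.card G * k = Nat.card (isometryGroup F Q) * Nat.card φ.ker) :
    Nonempty (POmega F Q ≃* P) := by
  let f : G →* Omega F Q := φ.codRestrict _ fun g => hle ⟨g, rfl⟩
  have hfsurj : Function.Surjective f := by
    rw [← MonoidHom.range_eq_top]
    refine Subgroup.eq_top_of_card_eq _ ?_
    have hkf : f.ker = φ.ker := MonoidHom.ker_codRestrict _ _ _
    have h1 : Nat.card f.range * Nat.card φ.ker = Nat.card G := by
      rw [← hkf, ← Nat.card_congr (QuotientGroup.quotientKerEquivRange f).toEquiv]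
      exact (Subgroup.card_eq_card_quotient_mul_card_subgroup f.ker).symm
    rw [← h1, ← Subgroup.card_mul_index (Omega F Q), hk] at hcard
    have hk0 : 0 < k := hk ▸ Nat.pos_of_ne_zero Subgroup.index_ne_zero_of_finite
    have h3 : Nat.card f.range * (Nat.card φ.ker * k) = Nat.card (Omega F Q) * (Nat.card φ.ker * k) := by
      rw [← mul_assoc, hcard]; ring
    exact Nat.eq_of_mul_eq_mul_right (Nat.mul_pos Nat.card_pos hk0) h3
  let ψ : G →* POmega F Q := (QuotientGroup.mk' _).comp f
  have hψ : Function.Surjective ψ := (QuotientGroup.mk'_surjective _).comp hfsurj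
  have hψker : ψ.ker = π.ker := by
    ext z
    rw [MonoidHom.mem_ker, show ψ z = QuotientGroup.mk (f z) from rfl, QuotientGroup.eq_one_iff,
      MonoidHom.mem_ker, Subgroup.mem_center_iff]
    constructor
    · intro h
      have hzc : π z ∈ Subgroup.center P := by
        rw [Subgroup.mem_center_iff]
        intro y
        obtain ⟨g, rfl⟩ := hπ y
        have h1 : φ (g * z * (z * g)⁻¹) = 1 := by
          rw [map_mul, map_mul, map_inv, map_mul, mul_inv_eq_one]
          exact congrArg Subtype.val (h (f g))
        have h2 := hker h1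
        rw [MonoidHom.mem_ker, map_mul, map_inv, map_mul, map_mul, mul_inv_eq_one] at h2
        exact h2
      rwa [hcen, Subgroup.mem_bot] at hzc
    · intro hz y
      obtain ⟨g, rfl⟩ := hfsurj y
      rw [← map_mul, ← map_mul, Subgroup.mem_center_iff.1 (hπc hz) g]
  exact ⟨((QuotientGroup.quotientKerEquivOfSurjective ψ hψ).symm.trans
    (QuotientGroup.quotientMulEquivOfEq hψker)).trans (QuotientGroup.quotientKerEquivOfSurjective π hπ)⟩

end CfsgLib.Classical.SmallIso
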