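/-
`SL_2` generation facts and the trivial centre of `PSL_2`, for the small isomorphisms.
-/
import Cfsg.Agent.Lib.Classical.SmallIso.Tools
import Cfsg.Agent.Lib.Classical.Dickson.Borel
import Cfsg.Agent.Lib.Classical.SLBasic

set_option autoImplicit false

namespace CfsgLib.Classical.SmallIso

open Matrix Cfsg CfsgLib.Transfer CfsgLib.Classical.Dickson CfsgLib.Fusion.PSL2
open scoped MatrixGroups LinearAlgebra.Projectivization

variable {F : Type*} [Field F] [Fintype F]

theorem center_psl_two : Subgroup.center (ProjectiveSpecialLinearGroup (Fin 2) F) = ⊥ := by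
  obtain ⟨p, _⟩ := CharP.exists F
  haveI : Fact p.Prime := ⟨CharP.char_is_prime F p⟩
  rw [Subgroup.eq_bot_iff_forall]
  intro z hz
  set T : ProjectiveSpecialLinearGroup (Fin 2) F →* Matrix.ProjGenLinGroup (Fin 2) F :=
    Matrix.ProjectiveSpecialLinearGroup.toPGL with hT
  have hTinj : Function.Injective T := Matrix.ProjectiveSpecialLinearGroup.toPGL_injective
  have hcomm : ∀ g, T z * T g = T g * T z := fun g => by
    rw [← map_mul, ← map_mul, Subgroup.mem_center_iff.1 hz g]
  obtain ⟨P⟩ : Nonempty (Sylow p (ProjectiveSpecialLinearGroup (Fin 2) F)) := inferInstance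
  obtain ⟨y, hN, -⟩ := sylow_point p P
  have hzy : T z • y = y := (hN z).1 (Subgroup.mem_normalizer_iff.2 fun v => by
    rw [← Subgroup.mem_center_iff.1 hz v, mul_inv_cancel_right])
  have hall : ∀ x, T z • x = x := fun x => by
    obtain ⟨g, rfl⟩ := psl_transitive y x
    rw [← mul_smul, hcomm, mul_smul, hzy]
  refine hTinj ((((pgl_two_sharply_three_transitive (F := F)).2 _ lineInf (linePt 0) (linePt 1)
      (lineInf_ne_linePt 0) (lineInf_ne_linePt 1) (fun h => zero_ne_one (linePt_inj h))
      (hall _) (hall _) (hall _))).trans (map_one T).symm)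

omit [Fintype F] in
theorem transvection_pow (p : ℕ) [CharP F p] {i j : Fin 2} (hij : i ≠ j) (c : F) :
    (SpecialLinearGroup.transvection hij c) ^ p = 1 := by
  have h : ∀ n : ℕ, (SpecialLinearGroup.transvection hij c) ^ n =
      SpecialLinearGroup.transvection hij ((n : F) * c) := by
    intro n
    induction n with
    | zero => simp [SpecialLinearGroup.transvection_coeff_zero]
    | succ n ih =>
      rw [pow_succ, ih]
      apply Subtype.ext
      show Matrix.transvection i j _ * Matrix.transvection i j _ = Matrix.transvection i j _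
      rw [Matrix.transvection_mul_transvection_same i j hij]
      push_cast
      ring_nf
  rw [h, CharP.cast_eq_zero F p, zero_mul, SpecialLinearGroup.transvection_coeff_zero]

/-- Homomorphisms from `SL_2` into an isometry group land in `Ω` in odd characteristic. -/
theorem sl_two_range_le_of_odd {ι : Type} [Fintype ι] [DecidableEq ι] (Q : (ι → F) → F) (h2 : (2 : F) ≠ 0)
    {k : ℕ} (hk : (Omega F Q).index = 2 ^ k) (φ : SpecialLinearGroup (Fin 2) F →* isometryGroup F Q) :
    φ.range ≤ Omega F Q := by
  obtain ⟨p, _⟩ := CharP.exists F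
  have hp : p.Prime := CharP.char_is_prime F p
  have hodd : Odd p := hp.eq_two_or_odd'.resolve_left fun h => h2 (by
    have := CharP.cast_eq_zero F p
    rw [h] at this
    exact_mod_cast this)
  have htop : (Omega F Q).comap φ = ⊤ := CfsgLib.Classical.SL_le_of_transvections _ fun i j hij c =>
    mem_Omega_of_pow_eq_one Q φ hk hodd (transvection_pow p hij c)
  rintro _ ⟨g, rfl⟩
  have : g ∈ (Omega F Q).comap φ := htop ▸ Subgroup.mem_top g
  exact this

theorem commutator_sl_two (hq : 4 ≤ Fintype.card F) : commutator (SpecialLinearGroup (Fin 2) F) = ⊤ := by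
  obtain ⟨x, hx, hx2⟩ : ∃ x : F, x ≠ 0 ∧ x ^ 2 ≠ 1 := by
    classical
    by_contra h
    push Not at h
    have hsub : (Finset.univ : Finset F) ⊆ {0, 1, -1} := fun x _ => by
      by_cases hx : x = 0
      · simp [hx]
      · rcases sq_eq_one_iff.1 (h x hx) with e | e <;> simp [e]
    have := (Finset.card_le_card hsub).trans Finset.card_le_three
    rw [Finset.card_univ] at this
    omega
  refine CfsgLib.Classical.SL_le_of_transvections _ fun i j hij c => ?_
  rw [commutator_eq_closure]
  exact Subgroup.subset_closure (CfsgLib.Classical.transvection_mem_commutatorSet_of_sq hij hx hx2 c)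

omit [Fintype F] in
/-- An element fixing all coordinates is central. -/
theorem mem_center_of_entries {g : SpecialLinearGroup (Fin 2) F} (h1 : g.1 0 1 = 0) (h2 : g.1 1 0 = 0)
    (h3 : g.1 0 0 = g.1 1 1) : g ∈ Subgroup.center (SpecialLinearGroup (Fin 2) F) := by
  rw [mem_center_iff']
  have hd := det_eq g
  rw [← h3, h1, zero_mul, sub_zero] at hd
  rcases mul_self_eq_one_iff.1 hd with e | e
  · exact Or.inl (ext2 (by simp [e]) (by simp [h1]) (by simp [h2]) (by simp [← h3, e]))
  · exact Or.inr (ext2 (by simp [negOne, e]) (by simp [negOne, h1]) (by simp [negOne, h2])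
      (by simp [negOne, ← h3, e]))

theorem card_center_sl_two {q : ℕ} (hF : Fintype.card F = q) :
    Nat.card (Subgroup.center (SpecialLinearGroup (Fin 2) F)) = Nat.gcd 2 (q - 1) := by
  classical
  rw [CfsgLib.Classical.card_center_SL, Fintype.card_fin, CfsgLib.Classical.card_units_eq hF]

end CfsgLib.Classical.SmallIso
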