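/-
`PΩ_3(q) ≅ PSL_2(q)`: the adjoint action on trace-zero matrices.
-/
import Cfsg.Agent.Lib.Classical.SmallIso.PSL2
import Cfsg.Agent.Lib.Classical.OmegaOdd
import Cfsg.Agent.Lib.Classical.QuadStd

set_option autoImplicit false

namespace CfsgLib.Classical.SmallIso

open Matrix Cfsg CfsgLib.Fusion.PSL2
open scoped MatrixGroups

variable {F : Type*} [Field F]

/-- Trace-zero matrices as the coordinates of the three-dimensional form. -/
def adjCoord (F : Type*) [Field F] : (OddI 1 → F) →ₗ[F] Matrix (Fin 2) (Fin 2) F where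
  toFun v := !![v oZ, v (oL 0); v (oR 0), -v oZ]
  map_add' u v := by ext i j; fin_cases i <;> fin_cases j <;> simp [add_comm]
  map_smul' c v := by ext i j; fin_cases i <;> fin_cases j <;> simp

/-- The adjoint action. -/
def adjRep (F : Type*) [Field F] : SL(2, F) →* Module.End F (Matrix (Fin 2) (Fin 2) F) where
  toFun g := (LinearMap.mulLeft F g.1).comp (LinearMap.mulRight F (g⁻¹).1)
  map_one' := LinearMap.ext fun X => by simp
  map_mul' g h := LinearMap.ext fun X => by simp [mul_assoc]

theorem adjRep_apply (g : SL(2, F)) (X : Matrix (Fin 2) (Fin 2) F) : adjRep F g X = g.1 * (X * (g⁻¹).1) := rfl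

theorem adjCoord_injective : Function.Injective (adjCoord F) := by
  intro u v h
  have e00 := congrFun (congrFun h 0) 0
  have e01 := congrFun (congrFun h 0) 1
  have e10 := congrFun (congrFun h 1) 0
  simp [adjCoord] at e00 e01 e10
  funext i
  rcases i with ⟨⟩ | i | i
  · exact e00
  · rw [Subsingleton.elim i 0]; exact e01
  · rw [Subsingleton.elim i 0]; exact e10

theorem val_inv_mul {n : Type*} [DecidableEq n] [Fintype n] {R : Type*} [CommRing R]
    (g : SpecialLinearGroup n R) : (g⁻¹).1 * g.1 = 1 := congrArg Subtype.val (inv_mul_cancel g)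

theorem trace_adjRep (g : SL(2, F)) (X : Matrix (Fin 2) (Fin 2) F) :
    (adjRep F g X).trace = X.trace := by
  rw [adjRep_apply, Matrix.trace_mul_comm, mul_assoc, val_inv_mul, mul_one]

theorem pomega_three [Fintype F] (hodd : Odd (Fintype.card F)) :
    Nonempty (POmega F (quadFormOdd 1 F) ≃* ProjectiveSpecialLinearGroup (Fin 2) F) := by
  have h2 := two_ne_zero_of_odd_card hodd
  obtain ⟨φ, hφ⟩ := exists_iso_hom (qOdd 1 F) (adjCoord F) adjCoord_injective (adjRep F)
    (fun X => -X.det)
    (fun v => by simp [adjCoord, Matrix.det_fin_two, qOdd_apply]; ring)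
    (fun g X => by rw [adjRep_apply, Matrix.det_mul, Matrix.det_mul, (g⁻¹).2, g.2, one_mul, mul_one])
    (fun g v => by
      set Y := adjRep F g (adjCoord F v) with hY
      have htr : Y.trace = 0 := by rw [hY, trace_adjRep]; simp [adjCoord, Matrix.trace_fin_two]
      rw [Matrix.trace_fin_two] at htr
      refine ⟨Sum.elim (fun _ => Y 0 0) (Sum.elim (fun _ => Y 0 1) fun _ => Y 1 0), ?_⟩
      ext i j
      fin_cases i <;> fin_cases j <;> simp [adjCoord]
      linear_combination -htr)
  have hker : φ.ker = Subgroup.center SL(2, F) := by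
    ext g
    rw [MonoidHom.mem_ker]
    constructor
    · intro hg
      have key : ∀ v, g.1 * adjCoord F v = adjCoord F v * g.1 := fun v => by
        have h := hφ g v
        rw [hg, isoApply_one, adjRep_apply] at h
        conv_rhs => rw [h]
        rw [mul_assoc, mul_assoc, val_inv_mul, mul_one]
      have k1 := key (Pi.single (oL 0) 1)
      have k2 := key (Pi.single (oR 0) 1)
      refine mem_center_of_entries ?_ ?_ ?_
      · have := congrFun (congrFun k2 0) 0
        simpa [adjCoord, Matrix.mul_apply, Fin.sum_univ_two] using this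
      · have := congrFun (congrFun k1 1) 1
        simpa [adjCoord, Matrix.mul_apply, Fin.sum_univ_two] using this
      · have := congrFun (congrFun k1 0) 1
        simpa [adjCoord, Matrix.mul_apply, Fin.sum_univ_two] using this
    · intro hg
      refine iso_ext fun v => adjCoord_injective ?_
      rw [hφ, isoApply_one, adjRep_apply]
      rcases mem_center_iff'.1 hg with rfl | rfl
      · simp
      · rw [show ((negOne : SL(2, F))⁻¹) = negOne from inv_eq_of_mul_eq_one_right CfsgLib.Classical.SL2Q.negOne_sq,
          CfsgLib.Classical.SL2Q.negOne_coe]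
        simp
  have hidx : (Omega F ⇑(qOdd 1 F)).index = 4 :=
    index_Omega_odd (qOdd 1 F) h2 (polarNondeg_qOdd h2 1) (by simp [Fintype.card_sum])
  rw [← coe_qOdd]
  refine nonempty_POmega_equiv _ φ (QuotientGroup.mk' _) (QuotientGroup.mk'_surjective _)
    (by rw [hker, QuotientGroup.ker_mk']) (by rw [QuotientGroup.ker_mk']) center_psl_two
    (sl_two_range_le_of_odd _ h2 (k := 2) (by rw [hidx]; norm_num) φ) hidx ?_
  rw [Nat.card_congr (isoEquiv (qOdd 1 F)).toEquiv, card_qAut_qOdd, card_qAut_line h2, hker,
    card_center_sl_two rfl, card_SL_two rfl, Nat.gcd_eq_left (by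
      have := Nat.odd_iff.1 hodd
      omega), Finset.prod_range_one]
  have hsq : Fintype.card F ^ (2 * (0 + 1)) - 1 = (Fintype.card F - 1) * (Fintype.card F + 1) := by
    rw [mul_comm (Fintype.card F - 1), ← Nat.sq_sub_sq]
  rw [hsq]
  ring

end CfsgLib.Classical.SmallIso
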