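/-
The quadratic extension attached to an anisotropic binary form.
-/
import Cfsg.Agent.Lib.Classical.QuadBinary
import Cfsg.Agent.Lib.Classical.Dickson.SmallSub
import Cfsg.Agent.Lib.Transvec.HermForm

set_option autoImplicit false

namespace CfsgLib.Classical.SmallIso

open Polynomial

variable {F K : Type*} [Field F] [Fintype F] [Field K] [Fintype K]

/-- Coordinates of the quadratic extension in which the norm is `z₁² + a z₁ z₂ + b z₂²`. -/
structure QuadData (F K : Type*) [Field F] [Field K] (q : ℕ) (a b : F) where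
  emb : F →+* K
  θ : K
  σ : K ≃+* K
  sigma_apply : ∀ x, σ x = x ^ q
  sigma_sigma : ∀ x, σ (σ x) = x
  sigma_emb : ∀ x, σ (emb x) = emb x
  sigma_theta : σ θ = emb a - θ
  theta_mul : θ * σ θ = emb b
  theta_ne : σ θ ≠ θ
  decomp : ∀ w : K, ∃ z₁ z₂ : F, w = emb z₁ + θ * emb z₂
  fixed : ∀ w : K, σ w = w → ∃ z, emb z = w

variable {q : ℕ} {a b : F}

omit [Fintype F] [Fintype K] in
theorem QuadData.norm_eq (d : QuadData F K q a b) (z₁ z₂ : F) :
    (d.emb z₁ + d.θ * d.emb z₂) * d.σ (d.emb z₁ + d.θ * d.emb z₂) = d.emb (z₁ ^ 2 + a * z₁ * z₂ + b * z₂ ^ 2) := by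
  rw [map_add, map_mul, d.sigma_emb, d.sigma_emb, d.sigma_theta]
  have h := d.theta_mul
  rw [d.sigma_theta] at h
  simp only [map_add, map_mul, map_pow]
  linear_combination (d.emb z₂ * d.emb z₂) * h

omit [Fintype F] [Fintype K] in
theorem QuadData.decomp_unique (d : QuadData F K q a b) {z₁ z₂ w₁ w₂ : F}
    (h : d.emb z₁ + d.θ * d.emb z₂ = d.emb w₁ + d.θ * d.emb w₂) : z₁ = w₁ ∧ z₂ = w₂ := by
  have h' := congrArg d.σ h
  rw [map_add, map_add, map_mul, map_mul, d.sigma_emb, d.sigma_emb, d.sigma_emb, d.sigma_emb] at h'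
  have h2 : (d.θ - d.σ d.θ) * (d.emb z₂ - d.emb w₂) = 0 := by linear_combination h - h'
  have e : z₂ = w₂ := d.emb.injective (sub_eq_zero.1 ((mul_eq_zero.1 h2).resolve_left (sub_ne_zero.2 d.theta_ne.symm)))
  subst e
  exact ⟨d.emb.injective (add_right_cancel h), rfl⟩

theorem exists_quadData (hF : Fintype.card F = q) (hK : Fintype.card K = q ^ 2)
    (hab : CfsgLib.Classical.BinAniso a b) : Nonempty (QuadData F K q a b) := by
  classical
  obtain ⟨σ, hσ, hinv, -⟩ := CfsgLib.Transvec.Unitary.exists_frob hK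
  set f : F[X] := X ^ 2 - C a * X + C b with hf
  have hroot : ∀ r : F, r ^ 2 - a * r + b ≠ 0 := fun r h =>
    one_ne_zero (hab (-r) 1 (by linear_combination h)).2
  have hdeg : f.natDegree = 2 := by rw [hf]; compute_degree!
  have hmonic : f.Monic := by rw [hf]; monicity!
  haveI : Fact (Irreducible f) := ⟨(Polynomial.Monic.irreducible_iff_roots_eq_zero_of_degree_le_three hmonic
      (by rw [hdeg]) (by rw [hdeg]; norm_num)).2 (Multiset.eq_zero_of_forall_notMem fun r hr => hroot r (by
        have := (Polynomial.mem_roots'.1 hr).2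
        simpa [hf, Polynomial.IsRoot] using this))⟩
  haveI : Module.Finite F (AdjoinRoot f) := hmonic.finite_adjoinRoot
  haveI : Finite (AdjoinRoot f) := Module.finite_of_finite F
  haveI : Fintype (AdjoinRoot f) := Fintype.ofFinite _
  have hcard : Fintype.card (AdjoinRoot f) = q ^ 2 := by
    rw [Module.card_eq_pow_finrank (K := F) (V := AdjoinRoot f), hF,
      (AdjoinRoot.powerBasis hmonic.ne_zero).finrank, AdjoinRoot.powerBasis_dim, hdeg]
  obtain ⟨j⟩ := CfsgLib.Classical.Dickson.exists_hom_of_card_pow (F := K) (K := AdjoinRoot f) 1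
    (by rw [pow_one, hcard, hK])
  let emb : F →+* K := j.comp (AdjoinRoot.of f)
  set θ := j (AdjoinRoot.root f) with hθdef
  have hθ : θ * θ - emb a * θ + emb b = 0 := by
    have h0 : eval₂ (AdjoinRoot.of f) (AdjoinRoot.root f) (X ^ 2 - C a * X + C b) = 0 :=
      (congrArg (eval₂ (AdjoinRoot.of f) (AdjoinRoot.root f)) hf.symm).trans (AdjoinRoot.eval₂_root f)
    have h := congrArg j h0
    simp only [eval₂_add, eval₂_sub, eval₂_pow, eval₂_mul, eval₂_X, eval₂_C, map_add, map_sub, map_mul, map_pow,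
      map_zero] at h
    rw [← pow_two]
    exact h
  have hemb : ∀ x, σ (emb x) = emb x := fun x => by rw [hσ, ← map_pow, ← hF, FiniteField.pow_card]
  have hq2 : 2 ≤ q := hF ▸ Fintype.one_lt_card
  have hfix : ∀ w : K, σ w = w → ∃ z, emb z = w := by
    intro w hw
    by_contra hcon
    push Not at hcon
    have hne : (X ^ q - X : K[X]) ≠ 0 := FiniteField.X_pow_card_sub_X_ne_zero _ hq2
    have hle := Polynomial.card_le_degree_of_subset_roots (p := (X ^ q - X : K[X]))
      (Z := insert w (Finset.univ.image emb)) (fun y hy => by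
        have hy' : y ∈ insert w (Finset.univ.image emb) := hy
        rw [Polynomial.mem_roots hne]
        rcases Finset.mem_insert.1 hy' with rfl | h
        · simp [Polynomial.IsRoot, ← hσ, hw]
        · obtain ⟨t, -, rfl⟩ := Finset.mem_image.1 h
          simp [Polynomial.IsRoot, ← hσ, hemb])
    rw [FiniteField.X_pow_card_sub_X_natDegree_eq _ hq2, Finset.card_insert_of_notMem (by simpa using hcon),
      Finset.card_image_of_injective _ emb.injective, Finset.card_univ, hF] at hle
    omega
  have hne : σ θ ≠ θ := fun h => by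
    obtain ⟨r, hr⟩ := hfix θ h
    rw [← hr, ← map_mul, ← map_mul, ← map_sub, ← map_add, map_eq_zero_iff emb emb.injective] at hθ
    exact hroot r (by linear_combination hθ)
  have hσθ : σ θ = emb a - θ := by
    have h := congrArg σ hθ
    rw [map_add, map_sub, map_mul, map_mul, map_zero, hemb, hemb] at h
    have : (σ θ - θ) * (σ θ + θ - emb a) = 0 := by linear_combination h - hθ
    linear_combination (mul_eq_zero.1 this).resolve_left (sub_ne_zero.2 hne)
  refine ⟨⟨emb, θ, σ, hσ, hinv, hemb, hσθ, by rw [hσθ]; linear_combination -hθ, hne, fun w => ?_, hfix⟩⟩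
  have hsurj : Function.Surjective (fun z : F × F => emb z.1 + θ * emb z.2) := by
    refine ((Fintype.bijective_iff_injective_and_card _).2 ⟨fun z z' h => ?_, ?_⟩).2
    · have h' := congrArg σ h
      simp only [map_add, map_mul, hemb] at h'
      have h2 : (θ - σ θ) * (emb z.2 - emb z'.2) = 0 := by
        have h'' : emb z.1 + θ * emb z.2 = emb z'.1 + θ * emb z'.2 := h
        linear_combination h'' - h'
      have e : z.2 = z'.2 := emb.injective (sub_eq_zero.1 ((mul_eq_zero.1 h2).resolve_left (sub_ne_zero.2 hne.symm)))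
      have h'' : emb z.1 + θ * emb z.2 = emb z'.1 + θ * emb z'.2 := h
      rw [e] at h''
      exact Prod.ext (emb.injective (add_right_cancel h'')) e
    · rw [Fintype.card_prod, hF, hK, pow_two]
  obtain ⟨⟨z₁, z₂⟩, hz⟩ := hsurj w
  exact ⟨z₁, z₂, hz.symm⟩

end CfsgLib.Classical.SmallIso
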