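/-
`PΩ⁻_4(q) ≅ PSL_2(q²)`: the action on Hermitian `2 × 2` matrices.
-/
import Cfsg.Agent.Lib.Classical.SmallIso.OmegaThree
import Cfsg.Agent.Lib.Classical.SmallIso.QuadExt
import Cfsg.Agent.Lib.Classical.SmallIso.MinusFourTwo

set_option autoImplicit false

namespace CfsgLib.Classical.SmallIso

open Matrix Cfsg CfsgLib.Fusion.PSL2
open scoped MatrixGroups

variable {F K : Type*} [Field F] [Field K] {q : ℕ} {a b : F}

/-- The Hermitian matrix of a vector. -/
def hermMat (d : QuadData F K q a b) (v : (Fin 1 ⊕ Fin 1) ⊕ Fin 2 → F) : Matrix (Fin 2) (Fin 2) K :=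
  !![d.emb (v (.inl (.inl 0))), d.emb (v (.inr 0)) + d.θ * d.emb (v (.inr 1));
    d.σ (d.emb (v (.inr 0)) + d.θ * d.emb (v (.inr 1))), -d.emb (v (.inl (.inr 0)))]

theorem hermMat_injective (d : QuadData F K q a b) : Function.Injective (hermMat d) := by
  intro u v h
  have e00 := congrFun (congrFun h 0) 0
  have e11 := congrFun (congrFun h 1) 1
  have e01 := congrFun (congrFun h 0) 1
  simp [hermMat] at e00 e11 e01
  obtain ⟨h0, h1⟩ := d.decomp_unique e01
  funext i
  rcases i with (i | i) | i
  · rw [Subsingleton.elim i 0]; exact d.emb.injective e00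
  · rw [Subsingleton.elim i 0]; exact d.emb.injective e11
  · fin_cases i
    · exact h0
    · exact h1

theorem hermMat_herm (d : QuadData F K q a b) (v : (Fin 1 ⊕ Fin 1) ⊕ Fin 2 → F) :
    (hermMat d v)ᵀ.map d.σ = hermMat d v := by
  ext i j
  fin_cases i <;> fin_cases j <;> simp [hermMat, d.sigma_sigma, d.sigma_emb, -map_add, -map_mul]

theorem exists_hermMat (d : QuadData F K q a b) {X : Matrix (Fin 2) (Fin 2) K} (hX : Xᵀ.map d.σ = X) :
    ∃ v, hermMat d v = X := by
  have h00 := congrFun (congrFun hX 0) 0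
  have h11 := congrFun (congrFun hX 1) 1
  have h10 := congrFun (congrFun hX 1) 0
  simp [Matrix.transpose_apply] at h00 h11 h10
  obtain ⟨x, hx⟩ := d.fixed _ h00
  obtain ⟨y, hy⟩ := d.fixed _ h11
  obtain ⟨z₁, z₂, hw⟩ := d.decomp (X 0 1)
  refine ⟨Sum.elim (Sum.elim (fun _ => x) fun _ => -y) ![z₁, z₂], ?_⟩
  ext i j
  fin_cases i <;> fin_cases j <;> simp [hermMat, hx, hy, ← hw, h10, -map_add, -map_mul]

theorem det_hermMat (d : QuadData F K q a b) (v : (Fin 1 ⊕ Fin 1) ⊕ Fin 2 → F) :
    -(hermMat d v).det = d.emb (Cfsg.quadFormMinus 1 F a b v) := by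
  rw [Matrix.det_fin_two]
  have hn := d.norm_eq (v (.inr 0)) (v (.inr 1))
  simp [hermMat, Cfsg.quadFormMinus, -map_add, -map_mul] at hn ⊢
  rw [hn]
  simp [map_add, map_mul, map_neg]
  ring

variable [Fintype F] [Fintype K]

theorem pomega_four_minus (hF : Fintype.card F = q) (hK : Fintype.card K = q ^ 2) (hab : BinAniso a b) :
    Nonempty (POmega F (quadFormMinus 1 F a b) ≃* ProjectiveSpecialLinearGroup (Fin 2) K) := by
  classical
  obtain ⟨d⟩ := exists_quadData hF hK hab
  letI : Algebra F K := d.emb.toAlgebra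
  have hq2 : 2 ≤ q := hF ▸ Fintype.one_lt_card
  have hKq : 4 ≤ Fintype.card K := by rw [hK]; exact Nat.pow_le_pow_left hq2 2
  have hsmul : ∀ (c : F) (x : K), c • x = d.emb c * x := fun c x => rfl
  let E : ((Fin 1 ⊕ Fin 1) ⊕ Fin 2 → F) →ₗ[F] Matrix (Fin 2) (Fin 2) K :=
    { toFun := hermMat d
      map_add' := fun u v => by
        ext i j
        fin_cases i <;> fin_cases j <;> simp [hermMat] <;> ring
      map_smul' := fun c v => by
        ext i j
        fin_cases i <;> fin_cases j <;> simp [hermMat, hsmul, d.sigma_emb] <;> ring }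
  let ρ : SL(2, K) →* Module.End F (Matrix (Fin 2) (Fin 2) K) :=
    { toFun := fun g => (LinearMap.mulLeft F g.1).comp (LinearMap.mulRight F (g.1ᵀ.map d.σ))
      map_one' := LinearMap.ext fun X => by simp [Matrix.map_one]
      map_mul' := fun g h => LinearMap.ext fun X => by
        simp [Matrix.transpose_mul, Matrix.map_mul, mul_assoc] }
  have hρ : ∀ g X, ρ g X = g.1 * (X * g.1ᵀ.map d.σ) := fun g X => rfl
  obtain ⟨φ, hφ⟩ := exists_iso_hom (qExt 1 (qBin a b)) E (hermMat_injective d) ρ
    (fun X => Function.invFun d.emb (-X.det))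
    (fun v => by
      show Function.invFun d.emb (-(hermMat d v).det) = _
      rw [det_hermMat, Function.leftInverse_invFun d.emb.injective, coe_qExt_qBin])
    (fun g X => by
      have hdet : (g.1ᵀ.map d.σ).det = 1 := by
        rw [← RingEquiv.mapMatrix_apply, ← RingEquiv.map_det, Matrix.det_transpose, g.2, map_one]
      rw [hρ, Matrix.det_mul, Matrix.det_mul, g.2, hdet, one_mul, mul_one])
    (fun g v => by
      obtain ⟨w, hw⟩ := exists_hermMat d (X := ρ g (hermMat d v)) (by
        rw [hρ, Matrix.transpose_mul, Matrix.transpose_mul, Matrix.map_mul, Matrix.map_mul, hermMat_herm,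
          ← mul_assoc]
        congr 2
        ext i j
        simp [d.sigma_sigma])
      exact ⟨w, hw⟩)
  have hker : φ.ker = Subgroup.center SL(2, K) := by
    ext g
    rw [MonoidHom.mem_ker]
    constructor
    · intro hg
      have key : ∀ v, g.1 * (hermMat d v * g.1ᵀ.map d.σ) = hermMat d v := fun v => by
        have h := hφ g v
        rw [hg, isoApply_one, hρ] at h
        exact h.symm
      have hu : g.1 * g.1ᵀ.map d.σ = 1 := by
        have h := key (Sum.elim (Sum.elim (fun _ => 1) fun _ => -1) ![0, 0])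
        rw [show hermMat d (Sum.elim (Sum.elim (fun _ => (1 : F)) fun _ => -1) ![0, 0]) = 1 by
          ext i j; fin_cases i <;> fin_cases j <;> simp [hermMat], one_mul] at h
        exact h
      have hcomm : ∀ v, g.1 * hermMat d v = hermMat d v * g.1 := fun v => by
        have hu' : g.1ᵀ.map d.σ * g.1 = 1 := mul_eq_one_comm.1 hu
        conv_rhs => rw [← key v]
        rw [mul_assoc, mul_assoc, hu', mul_one]
      have k1 := hcomm (Sum.elim (Sum.elim (fun _ => 1) fun _ => 0) ![0, 0])
      have k2 := hcomm (Sum.elim (Sum.elim (fun _ => 0) fun _ => 0) ![1, 0])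
      refine mem_center_of_entries ?_ ?_ ?_
      · have := congrFun (congrFun k1 0) 1
        simpa [hermMat, Matrix.mul_apply, Fin.sum_univ_two] using this.symm
      · have := congrFun (congrFun k1 1) 0
        simpa [hermMat, Matrix.mul_apply, Fin.sum_univ_two] using this
      · have := congrFun (congrFun k2 0) 1
        simpa [hermMat, Matrix.mul_apply, Fin.sum_univ_two] using this
    · intro hg
      refine iso_ext fun v => hermMat_injective d ?_
      show E _ = E _
      rw [hφ, isoApply_one, hρ]
      show _ = hermMat d v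
      rcases mem_center_iff'.1 hg with rfl | rfl
      · simp [E, Matrix.map_one]
      · rw [CfsgLib.Classical.SL2Q.negOne_coe]
        have e1 : (-1 : Matrix (Fin 2) (Fin 2) K).map d.σ = -1 := by
          ext i j
          fin_cases i <;> fin_cases j <;> simp
        simp [E, e1]
  have hperf := range_le_Omega_of_perfect _ φ (commutator_sl_two hKq)
  have hcardO : Nat.card (isometryGroup F ⇑(qExt 1 (qBin a b))) =
      2 * q ^ 2 * (q ^ 2 + 1) * (q ^ 2 - 1) := by
    rw [Nat.card_congr (isoEquiv _).toEquiv, card_qAut_minus hab 1, Finset.prod_range_one, hF]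
  have hidx : (Omega F ⇑(qExt 1 (qBin a b))).index = 2 * Nat.gcd 2 (q ^ 2 - 1) := by
    by_cases h2 : (2 : F) = 0
    · haveI : CharP F 2 := CharTwo.of_one_ne_zero_of_two_eq_zero one_ne_zero h2
      obtain ⟨n, -, hn⟩ := FiniteField.card F 2
      have hqe : 2 ∣ q := by rw [← hF, hn]; exact dvd_pow_self 2 n.ne_zero
      rw [(Nat.prime_two.coprime_iff_not_dvd).2 (fun h => by
        have : 1 ≤ q ^ 2 := Nat.one_le_pow _ _ (by omega)
        have h' : 2 ∣ q ^ 2 := dvd_pow hqe two_ne_zero
        omega)]
      by_cases hq : q = 2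
      · subst hq
        have hab1 : a = 1 ∧ b = 1 := by
          rcases eq_zero_or_one_of_card_two hF b with rfl | rfl
          · exact absurd (hab 0 1 (by ring)).2 one_ne_zero
          rcases eq_zero_or_one_of_card_two hF a with rfl | rfl
          · exact absurd (hab 1 1 (by ring_nf; exact h2)).1 one_ne_zero
          exact ⟨rfl, rfl⟩
        obtain ⟨rfl, rfl⟩ := hab1
        obtain ⟨e⟩ := minus_four_two hF
        rw [coe_qExt_qBin]
        show (commutator _).index = _
        rw [index_commutator_congr e, alternatingGroup.commutator_perm_eq (by simp),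
          alternatingGroup.index_eq_two, mul_one]
      · exact index_Omega_two _ (polarNondeg_qExt (polarNondeg_qBin hab) 1) (by simp [Fintype.card_sum]) (Or.inl (hF ▸ hq))
    · rw [index_Omega_odd _ h2 (polarNondeg_qExt (polarNondeg_qBin hab) 1) (by simp [Fintype.card_sum])]
      rw [Nat.gcd_eq_left]
      have hqo := odd_card_of_two_ne_zero h2
      rw [hF] at hqo
      have := Nat.odd_iff.1 (hqo.pow (n := 2))
      omega
  rw [← coe_qExt_qBin]
  refine nonempty_POmega_equiv _ φ (QuotientGroup.mk' _) (QuotientGroup.mk'_surjective _)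
    (by rw [hker, QuotientGroup.ker_mk']) (by rw [QuotientGroup.ker_mk']) center_psl_two hperf hidx ?_
  rw [hcardO, hker, card_center_sl_two hK, card_SL_two hK]
  ring

end CfsgLib.Classical.SmallIso
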