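/-
Alternating `4 × 4` matrices, their Pfaffian, and the congruence action.
-/
import Cfsg.Agent.Lib.Classical.SmallIso.Tools

set_option autoImplicit false

namespace CfsgLib.Classical.SmallIso

open Matrix

variable {K : Type*} [Field K]

/-- The alternating matrix with upper entries `x`. -/
def altMat (x : Fin 6 → K) : Matrix (Fin 4) (Fin 4) K :=
  !![0, x 0, x 1, x 2; -x 0, 0, x 3, x 4; -x 1, -x 3, 0, x 5; -x 2, -x 4, -x 5, 0]

/-- The upper entries. -/
def altCoord (X : Matrix (Fin 4) (Fin 4) K) : Fin 6 → K :=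
  ![X 0 1, X 0 2, X 0 3, X 1 2, X 1 3, X 2 3]

/-- The Pfaffian. -/
def altPf (x : Fin 6 → K) : K := x 0 * x 5 - x 1 * x 4 + x 2 * x 3

/-- The dual alternating matrix. -/
def altDual (x : Fin 6 → K) : Fin 6 → K := ![x 5, -x 4, x 3, x 2, -x 1, x 0]

/-- The action by congruence. -/
def wedgeMat (A : Matrix (Fin 4) (Fin 4) K) (x : Fin 6 → K) : Fin 6 → K :=
  altCoord (A * altMat x * Aᵀ)

theorem altCoord_altMat (x : Fin 6 → K) : altCoord (altMat x) = x := by
  funext i
  fin_cases i <;> simp [altCoord, altMat]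

set_option maxHeartbeats 2000000 in
theorem altMat_wedge (A : Matrix (Fin 4) (Fin 4) K) (x : Fin 6 → K) :
    altMat (wedgeMat A x) = A * altMat x * Aᵀ := by
  ext i j
  fin_cases i <;> fin_cases j <;>
    simp [wedgeMat, altCoord, altMat, Matrix.mul_apply, Fin.sum_univ_four] <;> ring

/-- The congruence action as a representation. -/
def wedgeRep (F K : Type*) [Field F] [Field K] [Algebra F K] :
    Matrix (Fin 4) (Fin 4) K →* Module.End F (Fin 6 → K) where
  toFun A :=
    { toFun := wedgeMat A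
      map_add' := fun x y => by
        rw [wedgeMat, wedgeMat, wedgeMat, show altMat (x + y) = altMat x + altMat y by
          ext i j; fin_cases i <;> fin_cases j <;> simp [altMat] <;> ring,
          Matrix.mul_add, Matrix.add_mul]
        funext i
        fin_cases i <;> simp [altCoord]
      map_smul' := fun c x => by
        rw [RingHom.id_apply, wedgeMat, wedgeMat, show altMat (c • x) = c • altMat x by
          ext i j; fin_cases i <;> fin_cases j <;> simp [altMat],
          Matrix.mul_smul, Matrix.smul_mul]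
        funext i
        fin_cases i <;> simp [altCoord] }
  map_one' := LinearMap.ext fun x => by
    show wedgeMat 1 x = x
    rw [wedgeMat, Matrix.transpose_one, one_mul, mul_one, altCoord_altMat]
  map_mul' A B := LinearMap.ext fun x => by
    show wedgeMat (A * B) x = wedgeMat A (wedgeMat B x)
    rw [wedgeMat, wedgeMat, altMat_wedge, Matrix.transpose_mul]
    simp only [mul_assoc]

theorem wedgeRep_apply (F : Type*) [Field F] [Algebra F K] (A : Matrix (Fin 4) (Fin 4) K) (x : Fin 6 → K) :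
    wedgeRep F K A x = wedgeMat A x := rfl

theorem wedgeMat_neg (A : Matrix (Fin 4) (Fin 4) K) (x : Fin 6 → K) : wedgeMat (-A) x = wedgeMat A x := by
  rw [wedgeMat, wedgeMat, Matrix.transpose_neg, Matrix.mul_neg, Matrix.neg_mul, Matrix.neg_mul, neg_neg]

theorem wedgeMat_one (x : Fin 6 → K) : wedgeMat 1 x = x := by
  rw [wedgeMat, Matrix.transpose_one, one_mul, mul_one, altCoord_altMat]

theorem det_four (A : Matrix (Fin 4) (Fin 4) K) : A.det =
    A 0 0 * (A 1 1 * A 2 2 * A 3 3 - A 1 1 * A 2 3 * A 3 2 - A 1 2 * A 2 1 * A 3 3 + A 1 2 * A 2 3 * A 3 1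
      + A 1 3 * A 2 1 * A 3 2 - A 1 3 * A 2 2 * A 3 1)
    - A 0 1 * (A 1 0 * A 2 2 * A 3 3 - A 1 0 * A 2 3 * A 3 2 - A 1 2 * A 2 0 * A 3 3 + A 1 2 * A 2 3 * A 3 0
      + A 1 3 * A 2 0 * A 3 2 - A 1 3 * A 2 2 * A 3 0)
    + A 0 2 * (A 1 0 * A 2 1 * A 3 3 - A 1 0 * A 2 3 * A 3 1 - A 1 1 * A 2 0 * A 3 3 + A 1 1 * A 2 3 * A 3 0
      + A 1 3 * A 2 0 * A 3 1 - A 1 3 * A 2 1 * A 3 0)
    - A 0 3 * (A 1 0 * A 2 1 * A 3 2 - A 1 0 * A 2 2 * A 3 1 - A 1 1 * A 2 0 * A 3 2 + A 1 1 * A 2 2 * A 3 0
      + A 1 2 * A 2 0 * A 3 1 - A 1 2 * A 2 1 * A 3 0) := by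
  simp [Matrix.det_succ_row_zero, Fin.sum_univ_succ, Fin.succAbove]
  ring

set_option maxHeartbeats 4000000 in
theorem altPf_wedge (A : Matrix (Fin 4) (Fin 4) K) (x : Fin 6 → K) :
    altPf (wedgeMat A x) = A.det * altPf x := by
  rw [det_four]
  simp [wedgeMat, altPf, altCoord, altMat, Matrix.mul_apply, Fin.sum_univ_four]
  ring

set_option maxHeartbeats 8000000 in
theorem altDual_wedge (A : Matrix (Fin 4) (Fin 4) K) (x : Fin 6 → K) :
    Aᵀ * altMat (altDual (wedgeMat A x)) * A = A.det • altMat (altDual x) := by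
  rw [det_four]
  ext i j
  fin_cases i <;> fin_cases j <;>
    simp [wedgeMat, altDual, altCoord, altMat, Matrix.mul_apply, Fin.sum_univ_four] <;> ring

theorem eq_one_or_neg_one_of_wedge_fix {A : Matrix (Fin 4) (Fin 4) K} (hdet : A.det = 1)
    (h : ∀ x : Fin 6 → K, x 1 + x 4 = 0 → wedgeMat A x = x) : A = 1 ∨ A = -1 := by
  have hB : Aᵀ * (Aᵀ)⁻¹ = 1 := Matrix.mul_nonsing_inv _ (by simp [hdet])
  have key : ∀ x : Fin 6 → K, x 1 + x 4 = 0 → A * altMat x = altMat x * (Aᵀ)⁻¹ := fun x hx => by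
    have h1 : altMat (wedgeMat A x) = altMat x := by rw [h x hx]
    rw [altMat_wedge] at h1
    conv_rhs => rw [← h1]
    rw [mul_assoc, hB, mul_one]
  have k0 := key ![1, 0, 0, 0, 0, 0] (by simp)
  have k2 := key ![0, 0, 1, 0, 0, 0] (by simp)
  have k3 := key ![0, 0, 0, 1, 0, 0] (by simp)
  have k5 := key ![0, 0, 0, 0, 0, 1] (by simp)
  have e20 : A 2 0 = 0 := by simpa [altMat, Matrix.mul_apply, Fin.sum_univ_four] using congrFun (congrFun k0 2) 1
  have e30 : A 3 0 = 0 := by simpa [altMat, Matrix.mul_apply, Fin.sum_univ_four] using congrFun (congrFun k0 3) 1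
  have e21 : A 2 1 = 0 := by simpa [altMat, Matrix.mul_apply, Fin.sum_univ_four] using congrFun (congrFun k0 2) 0
  have e31 : A 3 1 = 0 := by simpa [altMat, Matrix.mul_apply, Fin.sum_univ_four] using congrFun (congrFun k0 3) 0
  have e02 : A 0 2 = 0 := by simpa [altMat, Matrix.mul_apply, Fin.sum_univ_four] using congrFun (congrFun k5 0) 3
  have e12 : A 1 2 = 0 := by simpa [altMat, Matrix.mul_apply, Fin.sum_univ_four] using congrFun (congrFun k5 1) 3
  have e03 : A 0 3 = 0 := by simpa [altMat, Matrix.mul_apply, Fin.sum_univ_four] using congrFun (congrFun k5 0) 2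
  have e13 : A 1 3 = 0 := by simpa [altMat, Matrix.mul_apply, Fin.sum_univ_four] using congrFun (congrFun k5 1) 2
  have e10 : A 1 0 = 0 := by simpa [altMat, Matrix.mul_apply, Fin.sum_univ_four] using congrFun (congrFun k2 1) 3
  have e23 : A 2 3 = 0 := by simpa [altMat, Matrix.mul_apply, Fin.sum_univ_four] using congrFun (congrFun k2 2) 0
  have e01 : A 0 1 = 0 := by simpa [altMat, Matrix.mul_apply, Fin.sum_univ_four] using congrFun (congrFun k3 0) 2
  have e32 : A 3 2 = 0 := by simpa [altMat, Matrix.mul_apply, Fin.sum_univ_four] using congrFun (congrFun k3 3) 1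
  have d01 : A 0 0 * A 1 1 = 1 := by
    have := congrFun (h ![1, 0, 0, 0, 0, 0] (by simp)) 0
    simpa [wedgeMat, altCoord, altMat, Matrix.mul_apply, Fin.sum_univ_four, e01, e10] using this
  have d03 : A 0 0 * A 3 3 = 1 := by
    have := congrFun (h ![0, 0, 1, 0, 0, 0] (by simp)) 2
    simpa [wedgeMat, altCoord, altMat, Matrix.mul_apply, Fin.sum_univ_four, e03, e30] using this
  have d02 : A 0 0 * A 2 2 = 1 := by
    have := congrFun (h ![0, 1, 0, 0, -1, 0] (by simp)) 1
    simpa [wedgeMat, altCoord, altMat, Matrix.mul_apply, Fin.sum_univ_four, e01, e03, e20, e21, e23] using this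
  have d12 : A 1 1 * A 2 2 = 1 := by
    have := congrFun (h ![0, 0, 0, 1, 0, 0] (by simp)) 3
    simpa [wedgeMat, altCoord, altMat, Matrix.mul_apply, Fin.sum_univ_four, e12, e21] using this
  have a1 : A 1 1 = A 0 0 := by linear_combination A 1 1 * -d02 + A 0 0 * d12
  have a2 : A 2 2 = A 0 0 := by linear_combination A 2 2 * -d01 + A 0 0 * d12
  have a3 : A 3 3 = A 0 0 := by linear_combination A 3 3 * -d01 + A 1 1 * d03 + a1
  have hsq : A 0 0 * A 0 0 = 1 := by rw [← d01, a1]
  rcases mul_self_eq_one_iff.1 hsq with e | e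
  · left
    ext i j
    fin_cases i <;> fin_cases j <;> simp [e01, e02, e03, e10, e12, e13, e20, e21, e23, e30, e31, e32, a1, a2, a3, e]
  · right
    ext i j
    fin_cases i <;> fin_cases j <;> simp [e01, e02, e03, e10, e12, e13, e20, e21, e23, e30, e31, e32, a1, a2, a3, e]

section Recognition

variable {G : Type*} [Group G]

/-- A kernel consisting of the scalars `±1`. -/
theorem card_ker_of_signs {H : Type*} [Group H] (φ : G →* H) (m : G →* Matrix (Fin 4) (Fin 4) K)
    (hm : Function.Injective m) (hker : ∀ g, φ g = 1 ↔ m g = 1 ∨ m g = -1) (hneg : ∃ g, m g = -1) :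
    ((2 : K) = 0 → Nat.card φ.ker = 1) ∧ ((2 : K) ≠ 0 → Nat.card φ.ker = 2) := by
  have hc : Nat.card φ.ker = Set.ncard ({1, -1} : Set (Matrix (Fin 4) (Fin 4) K)) := by
    rw [← Nat.card_coe_set_eq]
    refine Nat.card_congr (Equiv.ofBijective
      (fun g => (⟨m g.1, (hker g.1).1 g.2⟩ : ({1, -1} : Set (Matrix (Fin 4) (Fin 4) K)))) ⟨fun a b e => ?_, fun y => ?_⟩)
    · exact Subtype.ext (hm (congrArg Subtype.val e))
    · rcases y.2 with e | e
      · exact ⟨1, Subtype.ext ((map_one m).trans e.symm)⟩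
      · obtain ⟨g, hg⟩ := hneg
        exact ⟨⟨g, (hker g).2 (Or.inr hg)⟩, Subtype.ext (hg.trans (Set.eq_of_mem_singleton e).symm)⟩
  constructor
  · intro h2
    have : (-1 : Matrix (Fin 4) (Fin 4) K) = 1 := by
      ext i j
      rw [Matrix.neg_apply, Matrix.one_apply]
      split_ifs
      · linear_combination -h2
      · simp
    rw [hc, this, Set.insert_eq_of_mem (Set.mem_singleton _), Set.ncard_singleton]
  · intro h2
    rw [hc, Set.ncard_pair]
    intro e
    refine h2 ?_
    have := congrFun (congrFun e 0) 0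
    simp at this
    linear_combination this

theorem mem_center_of_signs (m : G →* Matrix (Fin 4) (Fin 4) K) (hm : Function.Injective m) {g : G}
    (h : m g = 1 ∨ m g = -1) : g ∈ Subgroup.center G :=
  Subgroup.mem_center_iff.2 fun y => hm (by rw [map_mul, map_mul]; rcases h with e | e <;> simp [e])

theorem center_quotient_center_of_perfect (h : commutator G = ⊤) :
    Subgroup.center (G ⧸ Subgroup.center G) = ⊥ := by
  haveI : Group.IsPerfect G := ⟨h⟩
  exact Group.IsPerfect.center_quotient_center_eq_bot G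

end Recognition

end CfsgLib.Classical.SmallIso
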