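/-
`PΩ_5(q) ≅ PSp_4(q)` for odd `q`: the action on the five-dimensional part of the exterior square.
-/
import Cfsg.Agent.Lib.Classical.SmallIso.AltFour
import Cfsg.Agent.Lib.Classical.SpOrder
import Cfsg.Agent.Lib.Classical.SpSimple

set_option autoImplicit false

namespace CfsgLib.Classical.SmallIso

open Matrix Cfsg

variable {F : Type*} [Field F]

/-- `Sp_4` as matrices on `Fin 4`. -/
def spFour (F : Type*) [Field F] : symplecticGroup (Fin 2) F →* Matrix (Fin 4) (Fin 4) F :=
  (Matrix.reindexAlgEquiv F F finSumFinEquiv).toMonoidHom.comp (symplecticGroup (Fin 2) F).subtype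

theorem spFour_injective : Function.Injective (spFour F) := fun _ _ h =>
  Subtype.ext ((Matrix.reindexAlgEquiv F F finSumFinEquiv).injective h)

theorem spFour_det (g : symplecticGroup (Fin 2) F) : (spFour F g).det = 1 := by
  show (Matrix.reindexAlgEquiv F F finSumFinEquiv g.1).det = 1
  rw [Matrix.det_reindexAlgEquiv, SymplecticGroup.det_eq_one g.2]

theorem spFour_form (g : symplecticGroup (Fin 2) F) :
    (spFour F g)ᵀ * (!![0, 0, -1, 0; 0, 0, 0, -1; 1, 0, 0, 0; 0, 1, 0, 0] : Matrix (Fin 4) (Fin 4) F) * spFour F g =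
      !![0, 0, -1, 0; 0, 0, 0, -1; 1, 0, 0, 0; 0, 1, 0, 0] := by
  have hJ : (!![0, 0, -1, 0; 0, 0, 0, -1; 1, 0, 0, 0; 0, 1, 0, 0] : Matrix (Fin 4) (Fin 4) F) =
      Matrix.reindexAlgEquiv F F finSumFinEquiv (Matrix.J (Fin 2) F) := by
    ext i j
    fin_cases i <;> fin_cases j <;> simp [Matrix.J, finSumFinEquiv, Fin.addCases, Matrix.one_apply]
  rw [hJ]
  show (Matrix.reindex finSumFinEquiv finSumFinEquiv g.1)ᵀ * _ * _ = _
  rw [Matrix.transpose_reindex]
  show Matrix.reindexAlgEquiv F F finSumFinEquiv g.1ᵀ * Matrix.reindexAlgEquiv F F finSumFinEquiv _ *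
    Matrix.reindexAlgEquiv F F finSumFinEquiv g.1 = _
  rw [← map_mul, ← map_mul, SymplecticGroup.mem_iff'.1 g.2]

/-- Coordinates of the five-dimensional space. -/
def fiveCoord (F : Type*) [Field F] : (OddI 2 → F) →ₗ[F] (Fin 6 → F) where
  toFun v := ![v (oL 0), v oZ, v (oL 1), v (oR 1), -v oZ, v (oR 0)]
  map_add' u v := by funext i; fin_cases i <;> simp [add_comm]
  map_smul' c v := by funext i; fin_cases i <;> simp

theorem fiveCoord_injective : Function.Injective (fiveCoord F) := by
  intro u v h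
  funext i
  rcases i with i | i | i
  · exact congrFun h 1
  · fin_cases i
    · exact congrFun h 0
    · exact congrFun h 2
  · fin_cases i
    · exact congrFun h 5
    · exact congrFun h 3

theorem exists_fiveCoord {x : Fin 6 → F} (h : x 1 + x 4 = 0) : ∃ v, fiveCoord F v = x := by
  refine ⟨Sum.elim (fun _ => x 1) (Sum.elim ![x 0, x 2] ![x 5, x 3]), ?_⟩
  funext i
  fin_cases i <;> simp [fiveCoord, oL, oR, oZ]
  linear_combination -h

theorem wedge_spFour_mem (g : symplecticGroup (Fin 2) F) {x : Fin 6 → F} (h : x 1 + x 4 = 0) :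
    wedgeMat (spFour F g) x 1 + wedgeMat (spFour F g) x 4 = 0 := by
  have hA := spFour_form g
  generalize spFour F g = A at hA
  have c01 := congrFun (congrFun hA 0) 1
  have c02 := congrFun (congrFun hA 0) 2
  have c03 := congrFun (congrFun hA 0) 3
  have c12 := congrFun (congrFun hA 1) 2
  have c13 := congrFun (congrFun hA 1) 3
  have c23 := congrFun (congrFun hA 2) 3
  simp [Matrix.mul_apply, Fin.sum_univ_four] at c01 c02 c03 c12 c13 c23
  simp [wedgeMat, altCoord, altMat, Matrix.mul_apply, Fin.sum_univ_four]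
  linear_combination -(x 0) * c01 - x 1 * c02 - x 2 * c03 - x 3 * c12 - x 4 * c13 - x 5 * c23 + h

theorem spFour_neg : spFour F spNegOne = -1 := by
  show Matrix.reindexAlgEquiv F F finSumFinEquiv (-1 : Matrix (Fin 2 ⊕ Fin 2) (Fin 2 ⊕ Fin 2) F) = -1
  rw [map_neg, map_one]

theorem pomega_five [Fintype F] (hodd : Odd (Fintype.card F)) :
    Nonempty (POmega F (quadFormOdd 2 F) ≃* PSp 2 F) := by
  classical
  have h2 : (2 : F) ≠ 0 := by
    intro h2
    haveI : CharP F 2 := CharTwo.of_one_ne_zero_of_two_eq_zero one_ne_zero h2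
    obtain ⟨n, -, hn⟩ := FiniteField.card F 2
    exact (Nat.not_even_iff_odd.2 hodd) (hn ▸ Nat.even_pow.2 ⟨even_two, n.ne_zero⟩)
  obtain ⟨φ, hφ⟩ := exists_iso_hom (qOdd 2 F) (fiveCoord F) fiveCoord_injective
    ((wedgeRep F F).comp (spFour F)) altPf
    (fun v => by
      simp [fiveCoord, altPf, qOdd_apply, Fin.sum_univ_two]
      ring)
    (fun g x => by
      rw [MonoidHom.comp_apply, wedgeRep_apply, altPf_wedge, spFour_det, one_mul])
    (fun g v => by
      obtain ⟨w, hw⟩ := exists_fiveCoord (wedge_spFour_mem g (x := fiveCoord F v) (by simp [fiveCoord]))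
      exact ⟨w, hw⟩)
  have hker : ∀ g, φ g = 1 ↔ spFour F g = 1 ∨ spFour F g = -1 := fun g => by
    constructor
    · intro hg
      refine eq_one_or_neg_one_of_wedge_fix (spFour_det g) fun x hx => ?_
      obtain ⟨v, rfl⟩ := exists_fiveCoord hx
      have h := hφ g v
      rw [hg, isoApply_one, MonoidHom.comp_apply, wedgeRep_apply] at h
      exact h.symm
    · intro hg
      refine iso_ext fun v => fiveCoord_injective ?_
      rw [hφ, isoApply_one, MonoidHom.comp_apply, wedgeRep_apply]
      rcases hg with e | e <;> rw [e]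
      · exact wedgeMat_one _
      · rw [wedgeMat_neg, wedgeMat_one]
  have hk : Nat.card φ.ker = 2 :=
    (card_ker_of_signs φ (spFour F) spFour_injective hker ⟨_, spFour_neg⟩).2 h2
  have hperf : commutator (symplecticGroup (Fin 2) F) = ⊤ := commutator_sp_eq_top (Or.inr (Or.inr ⟨le_rfl, h2⟩))
  rw [← coe_qOdd]
  refine nonempty_POmega_equiv _ φ (QuotientGroup.mk' _) (QuotientGroup.mk'_surjective _)
    (fun g hg => ?_) (by rw [QuotientGroup.ker_mk']) (center_quotient_center_of_perfect hperf)
    (range_le_Omega_of_perfect _ φ hperf)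
    (index_Omega_odd _ h2 (polarNondeg_qOdd h2 2) (by simp [Fintype.card_sum])) ?_
  · rw [QuotientGroup.ker_mk']
    exact mem_center_of_signs (spFour F) spFour_injective ((hker g).1 hg)
  · rw [card_sp, Nat.card_congr (isoEquiv _).toEquiv, card_qAut_qOdd, card_qAut_line h2, hk]
    ring

end CfsgLib.Classical.SmallIso
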