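/-
`PΩ⁺_4(q) ≅ PSL_2(q) × PSL_2(q)`: the two-sided action on `2 × 2` matrices.
-/
import Cfsg.Agent.Lib.Classical.SmallIso.OmegaThree

set_option autoImplicit false

namespace CfsgLib.Classical.SmallIso

open Matrix Cfsg CfsgLib.Fusion.PSL2
open scoped MatrixGroups commutatorElement

variable {F : Type*} [Field F]

/-- `2 × 2` matrices as coordinates of the hyperbolic four-space. -/
def bothCoord (F : Type*) [Field F] : (Fin 2 ⊕ Fin 2 → F) →ₗ[F] Matrix (Fin 2) (Fin 2) F where
  toFun v := !![v (.inl 0), -v (.inl 1); v (.inr 1), v (.inr 0)]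
  map_add' u v := by ext i j; fin_cases i <;> fin_cases j <;> simp [add_comm]
  map_smul' c v := by ext i j; fin_cases i <;> fin_cases j <;> simp

theorem bothCoord_surjective : Function.Surjective (bothCoord F) := fun X =>
  ⟨Sum.elim ![X 0 0, -X 0 1] ![X 1 1, X 1 0], by ext i j; fin_cases i <;> fin_cases j <;> simp [bothCoord]⟩

theorem bothCoord_injective : Function.Injective (bothCoord F) := by
  intro u v h
  have e00 := congrFun (congrFun h 0) 0
  have e01 := congrFun (congrFun h 0) 1
  have e10 := congrFun (congrFun h 1) 0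
  have e11 := congrFun (congrFun h 1) 1
  simp [bothCoord] at e00 e01 e10 e11
  funext i
  rcases i with i | i <;> fin_cases i
  · exact e00
  · exact e01
  · exact e11
  · exact e10

/-- The two-sided action. -/
def bothRep (F : Type*) [Field F] : SL(2, F) × SL(2, F) →* Module.End F (Matrix (Fin 2) (Fin 2) F) where
  toFun g := (LinearMap.mulLeft F g.1.1).comp (LinearMap.mulRight F (g.2⁻¹).1)
  map_one' := LinearMap.ext fun X => by simp
  map_mul' g h := LinearMap.ext fun X => by simp [mul_assoc]

theorem bothRep_apply (g : SL(2, F) × SL(2, F)) (X : Matrix (Fin 2) (Fin 2) F) :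
    bothRep F g X = g.1.1 * (X * (g.2⁻¹).1) := rfl

variable [Fintype F]

theorem commutator_prod_sl_two (hq : 4 ≤ Fintype.card F) : commutator (SL(2, F) × SL(2, F)) = ⊤ := by
  refine eq_top_iff.2 fun g _ => ?_
  have h1 : ∀ a : SL(2, F), MonoidHom.inl SL(2, F) SL(2, F) a ∈ commutator (SL(2, F) × SL(2, F)) := fun a => by
    have ha : a ∈ commutator SL(2, F) := commutator_sl_two hq ▸ Subgroup.mem_top a
    have := Subgroup.mem_map_of_mem (MonoidHom.inl SL(2, F) SL(2, F)) ha
    rw [commutator_def, Subgroup.map_commutator] at this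
    exact Subgroup.commutator_mono le_top le_top this
  have h2 : ∀ a : SL(2, F), MonoidHom.inr SL(2, F) SL(2, F) a ∈ commutator (SL(2, F) × SL(2, F)) := fun a => by
    have ha : a ∈ commutator SL(2, F) := commutator_sl_two hq ▸ Subgroup.mem_top a
    have := Subgroup.mem_map_of_mem (MonoidHom.inr SL(2, F) SL(2, F)) ha
    rw [commutator_def, Subgroup.map_commutator] at this
    exact Subgroup.commutator_mono le_top le_top this
  rw [show g = MonoidHom.inl SL(2, F) SL(2, F) g.1 * MonoidHom.inr SL(2, F) SL(2, F) g.2 by simp]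
  exact mul_mem (h1 _) (h2 _)

theorem pomega_four_plus (h3 : 3 ≤ Fintype.card F) :
    Nonempty (POmega F (quadFormPlus 2 F) ≃*
      ProjectiveSpecialLinearGroup (Fin 2) F × ProjectiveSpecialLinearGroup (Fin 2) F) := by
  classical
  obtain ⟨φ, hφ⟩ := exists_iso_hom (qPlus 2 F) (bothCoord F) bothCoord_injective (bothRep F) Matrix.det
    (fun v => by simp [coe_qPlus, quadFormPlus, bothCoord, Matrix.det_fin_two, Fin.sum_univ_two])
    (fun g X => by rw [bothRep_apply, Matrix.det_mul, Matrix.det_mul, (g.2⁻¹).2, g.1.2, one_mul, mul_one])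
    (fun g v => bothCoord_surjective _)
  have hker : ∀ g, φ g = 1 ↔ g.1 = g.2 ∧ g.1 ∈ Subgroup.center SL(2, F) := by
    intro g
    constructor
    · intro hg
      have key : ∀ X, g.1.1 * X = X * g.2.1 := fun X => by
        obtain ⟨v, rfl⟩ := bothCoord_surjective X
        have h := hφ g v
        rw [hg, isoApply_one, bothRep_apply] at h
        conv_rhs => rw [h]
        rw [mul_assoc, mul_assoc, val_inv_mul, mul_one]
      have e : g.1 = g.2 := Subtype.ext (by simpa using key 1)
      refine ⟨e, ?_⟩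
      have k1 := key (Matrix.single 0 1 1)
      have k2 := key (Matrix.single 1 0 1)
      rw [← e] at k1 k2
      refine mem_center_of_entries ?_ ?_ ?_
      · have := congrFun (congrFun k2 0) 0
        simpa [Matrix.mul_apply, Fin.sum_univ_two] using this
      · have := congrFun (congrFun k1 1) 1
        simpa [Matrix.mul_apply, Fin.sum_univ_two] using this
      · have := congrFun (congrFun k1 0) 1
        simpa [Matrix.mul_apply, Fin.sum_univ_two] using this
    · rintro ⟨e, hc⟩
      refine iso_ext fun v => bothCoord_injective ?_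
      rw [hφ, isoApply_one, bothRep_apply, ← e]
      rcases mem_center_iff'.1 hc with h | h <;> rw [h]
      · simp
      · rw [show ((negOne : SL(2, F))⁻¹) = negOne from inv_eq_of_mul_eq_one_right CfsgLib.Classical.SL2Q.negOne_sq,
          CfsgLib.Classical.SL2Q.negOne_coe]
        simp
  have hkcard : Nat.card φ.ker = Nat.gcd 2 (Fintype.card F - 1) := by
    rw [← card_center_sl_two (F := F) rfl]
    exact Nat.card_congr
      { toFun := fun g => ⟨g.1.1, ((hker g.1).1 g.2).2⟩
        invFun := fun c => ⟨(c.1, c.1), (hker _).2 ⟨rfl, c.2⟩⟩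
        left_inv := fun g => Subtype.ext (Prod.ext rfl ((hker g.1).1 g.2).1)
        right_inv := fun c => rfl }
  let π := MonoidHom.prodMap (QuotientGroup.mk' (Subgroup.center SL(2, F)))
    (QuotientGroup.mk' (Subgroup.center SL(2, F)))
  have hπker : ∀ g, g ∈ π.ker ↔ g.1 ∈ Subgroup.center SL(2, F) ∧ g.2 ∈ Subgroup.center SL(2, F) := fun g => by
    rw [MonoidHom.mem_ker]
    simp [π, MonoidHom.prodMap, Prod.ext_iff, QuotientGroup.eq_one_iff]
  have hcen : Subgroup.center (ProjectiveSpecialLinearGroup (Fin 2) F × ProjectiveSpecialLinearGroup (Fin 2) F) = ⊥ := by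
    rw [Subgroup.eq_bot_iff_forall]
    intro z hz
    have hb := center_psl_two (F := F)
    rw [Subgroup.eq_bot_iff_forall] at hb
    refine Prod.ext (hb _ (Subgroup.mem_center_iff.2 fun y => ?_)) (hb _ (Subgroup.mem_center_iff.2 fun y => ?_))
    · exact congrArg Prod.fst (Subgroup.mem_center_iff.1 hz (y, 1))
    · exact congrArg Prod.snd (Subgroup.mem_center_iff.1 hz (1, y))
  have hidx_le : ∃ k, (Omega F ⇑(qPlus 2 F)).index = k ∧ k = 2 * Nat.gcd 2 (Fintype.card F - 1) ∧
      φ.range ≤ Omega F ⇑(qPlus 2 F) := by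
    by_cases h2 : (2 : F) = 0
    · haveI : CharP F 2 := CharTwo.of_one_ne_zero_of_two_eq_zero one_ne_zero h2
      have hq4 : 4 ≤ Fintype.card F := by
        obtain ⟨n, -, hn⟩ := FiniteField.card F 2
        by_contra hlt
        have h := (Nat.even_pow.2 ⟨even_two, n.ne_zero⟩ : Even (2 ^ (n : ℕ)))
        rw [← hn, Nat.even_iff] at h
        omega
      refine ⟨2, index_Omega_two _ (polarNondeg_qPlus 2) (by simp) (Or.inl (by omega)), ?_,
        range_le_Omega_of_perfect _ φ (commutator_prod_sl_two hq4)⟩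
      rw [Nat.prime_two.coprime_iff_not_dvd.2]
      obtain ⟨n, -, hn⟩ := FiniteField.card F 2
      have : 2 ∣ Fintype.card F := hn ▸ dvd_pow_self 2 n.ne_zero
      omega
    · have hidx : (Omega F ⇑(qPlus 2 F)).index = 4 := index_Omega_odd _ h2 (polarNondeg_qPlus 2) (by simp)
      refine ⟨4, hidx, ?_, ?_⟩
      · have := Nat.odd_iff.1 (odd_card_of_two_ne_zero h2)
        rw [Nat.gcd_eq_left (by omega)]
      · rintro _ ⟨g, rfl⟩
        have e : g = MonoidHom.inl SL(2, F) SL(2, F) g.1 * MonoidHom.inr SL(2, F) SL(2, F) g.2 := by simp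
        rw [e, map_mul]
        exact mul_mem (sl_two_range_le_of_odd _ h2 (k := 2) (by rw [hidx]; norm_num) (φ.comp (MonoidHom.inl _ _)) ⟨g.1, rfl⟩)
          (sl_two_range_le_of_odd _ h2 (k := 2) (by rw [hidx]; norm_num) (φ.comp (MonoidHom.inr _ _)) ⟨g.2, rfl⟩)
  obtain ⟨k, hk, hk2, hle⟩ := hidx_le
  rw [← coe_qPlus]
  refine nonempty_POmega_equiv _ φ π ((QuotientGroup.mk'_surjective _).prodMap (QuotientGroup.mk'_surjective _))
    (fun g hg => (hπker g).2 (let h := (hker g).1 hg; ⟨h.2, h.1 ▸ h.2⟩))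
    (fun g hg => Subgroup.mem_center_iff.2 fun y => Prod.ext
      (Subgroup.mem_center_iff.1 ((hπker g).1 hg).1 y.1) (Subgroup.mem_center_iff.1 ((hπker g).1 hg).2 y.2))
    hcen hle hk ?_
  rw [Nat.card_congr (isoEquiv (qPlus 2 F)).toEquiv, card_qAut_qPlus, card_qAut_plus 1, hkcard, Nat.card_prod,
    card_SL_two rfl, Finset.prod_range_one, hk2]
  have hsq : ∀ a : ℕ, Fintype.card F ^ a = Fintype.card F ^ 2 → Fintype.card F ^ a - 1 =
      (Fintype.card F - 1) * (Fintype.card F + 1) := fun a ha => by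
    rw [ha, mul_comm (Fintype.card F - 1), ← Nat.sq_sub_sq, one_pow]
  rw [hsq (1 + 1) rfl]
  ring

end CfsgLib.Classical.SmallIso
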