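/-
`PΩ⁻_6(q) ≅ PSU_4(q)`: the twisted real form of the exterior square.
-/
import Cfsg.Agent.Lib.Classical.SmallIso.AltFour
import Cfsg.Agent.Lib.Classical.SmallIso.QuadExt
import Cfsg.Agent.Lib.Classical.UnitaryPSU
import Cfsg.Agent.Lib.Classical.HermOrder

set_option autoImplicit false

namespace CfsgLib.Classical.SmallIso

open Matrix Cfsg

variable {F K : Type*} [Field F] [Field K] {q : ℕ} {a b : F}

/-- `SU_4` as matrices. -/
def suFour (K : Type*) [Field K] (q : ℕ) : SU 4 K q →* Matrix (Fin 4) (Fin 4) K :=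
  (slToMat 4 K).comp (SU 4 K q).subtype

theorem suFour_injective : Function.Injective (suFour K q) := fun _ _ h => Subtype.ext (Subtype.ext h)

theorem suFour_det (g : SU 4 K q) : (suFour K q g).det = 1 := g.1.2

theorem suFour_unitary (d : QuadData F K q a b) (g : SU 4 K q) :
    (suFour K q g)ᵀ * (suFour K q g).map d.σ = 1 := by
  ext i j
  have h : hermForm 4 K q (suFour K q g *ᵥ Pi.single i 1) (suFour K q g *ᵥ Pi.single j 1) =
      hermForm 4 K q (Pi.single i 1) (Pi.single j 1) := g.2 _ _
  rw [Matrix.mulVec_single_one, Matrix.mulVec_single_one] at h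
  simp only [hermForm, ← d.sigma_apply] at h
  rw [Matrix.mul_apply, Matrix.one_apply]
  refine Eq.trans (Eq.trans (Finset.sum_congr rfl fun k _ => ?_) h) ?_
  · simp [Matrix.col]
  · rw [Finset.sum_eq_single i] <;> simp +contextual [Pi.single_apply, apply_ite d.σ]

/-- The twisted condition. -/
def IsTwisted (d : QuadData F K q a b) (x : Fin 6 → K) : Prop := altDual x = fun i => d.σ (x i)

theorem isTwisted_wedge (d : QuadData F K q a b) (g : SU 4 K q) {x : Fin 6 → K} (h : IsTwisted d x) :
    IsTwisted d (wedgeMat (suFour K q g) x) := by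
  have hu := suFour_unitary d g
  have hdet := suFour_det g
  generalize suFour K q g = A at hu hdet
  have hu' : A.map d.σ * Aᵀ = 1 := mul_eq_one_comm.1 hu
  have hu'' : A * (A.map d.σ)ᵀ = 1 := by
    have := congrArg Matrix.transpose hu'
    rwa [Matrix.transpose_mul, Matrix.transpose_transpose, Matrix.transpose_one] at this
  have hmap : ∀ y : Fin 6 → K, (altMat y).map d.σ = altMat fun i => d.σ (y i) := fun y => by
    ext i j
    fin_cases i <;> fin_cases j <;> simp [altMat]
  have key : altMat (altDual (wedgeMat A x)) = altMat fun i => d.σ (wedgeMat A x i) := by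
    calc altMat (altDual (wedgeMat A x))
        = (A.map d.σ * Aᵀ) * altMat (altDual (wedgeMat A x)) * (A * (A.map d.σ)ᵀ) := by
          rw [hu', hu'', one_mul, mul_one]
      _ = A.map d.σ * (Aᵀ * altMat (altDual (wedgeMat A x)) * A) * (A.map d.σ)ᵀ := by
          simp only [mul_assoc]
      _ = A.map d.σ * (altMat x).map d.σ * Aᵀ.map d.σ := by
          rw [altDual_wedge, hdet, one_smul, h, hmap, Matrix.transpose_map]
      _ = (A * altMat x * Aᵀ).map d.σ := by rw [Matrix.map_mul, Matrix.map_mul]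
      _ = _ := by rw [← altMat_wedge, hmap]
  have := congrArg altCoord key
  rwa [altCoord_altMat, altCoord_altMat] at this

/-- The six free coordinates of a twisted vector. -/
def twistVec (d : QuadData F K q a b) (c : K) (v : (Fin 2 ⊕ Fin 2) ⊕ Fin 2 → F) : Fin 6 → K :=
  let P := d.emb (v (.inl (.inl 0))) - d.θ * d.emb (v (.inl (.inr 1)))
  let R := d.emb (v (.inl (.inl 1))) + d.θ * d.emb (v (.inl (.inr 0)))
  let s := (P * d.θ - R) / (d.θ - d.σ d.θ)
  let x₀ := d.emb (v (.inr 0)) + d.θ * d.emb (v (.inr 1))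
  ![x₀, P - s, c * s, d.σ (c * s), -d.σ (P - s), d.σ x₀]

theorem twistVec_isTwisted (d : QuadData F K q a b) (c : K) (v : (Fin 2 ⊕ Fin 2) ⊕ Fin 2 → F) :
    IsTwisted d (twistVec d c v) := by
  funext i
  fin_cases i <;> simp [altDual, twistVec, d.sigma_sigma, -map_add, -map_mul, -map_sub]

theorem exists_twistVec (d : QuadData F K q a b) {c : K} (hc : c ≠ 0) {x : Fin 6 → K} (h : IsTwisted d x) :
    ∃ v, twistVec d c v = x := by
  have hθ : d.θ - d.σ d.θ ≠ 0 := sub_ne_zero.2 d.theta_ne.symm
  obtain ⟨p₁, p₂, hP⟩ := d.decomp (x 1 + x 2 / c)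
  obtain ⟨r₁, r₂, hR⟩ := d.decomp (x 1 * d.θ + x 2 / c * d.σ d.θ)
  obtain ⟨z₁, z₂, hz⟩ := d.decomp (x 0)
  have h0 : x 5 = d.σ (x 0) := congrFun h 0
  have h1 : -x 4 = d.σ (x 1) := congrFun h 1
  have h2 : x 3 = d.σ (x 2) := congrFun h 2
  refine ⟨Sum.elim (Sum.elim ![p₁, r₁] ![r₂, -p₂]) ![z₁, z₂], ?_⟩
  have eP : d.emb p₁ - d.θ * d.emb (-p₂) = x 1 + x 2 / c := by rw [map_neg, hP]; ring
  have es : ((x 1 + x 2 / c) * d.θ - (x 1 * d.θ + x 2 / c * d.σ d.θ)) / (d.θ - d.σ d.θ) = x 2 / c := by
    rw [div_eq_iff hθ]; ring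
  funext i
  fin_cases i <;> simp only [twistVec, Sum.elim_inl, Sum.elim_inr] <;> simp [-map_add, -map_mul, -map_sub, -map_neg]
  · exact hz.symm
  · rw [eP, ← hR, es]; ring
  · rw [eP, ← hR, es]; field_simp
  · rw [eP, ← hR, es, h2]; congr 1; field_simp
  · rw [eP, ← hR, es, add_sub_cancel_right]; linear_combination h1
  · rw [← hz, h0]

theorem twistVec_injective (d : QuadData F K q a b) {c : K} (hc : c ≠ 0) :
    Function.Injective (twistVec d c) := by
  intro u v h
  have hθ : d.θ - d.σ d.θ ≠ 0 := sub_ne_zero.2 d.theta_ne.symm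
  have e0 := congrFun h 0
  have e1 := congrFun h 1
  have e2 := congrFun h 2
  simp [twistVec] at e0 e1 e2
  have e2' := e2.resolve_right hc
  have eP : d.emb (u (.inl (.inl 0))) + d.θ * d.emb (-u (.inl (.inr 1))) =
      d.emb (v (.inl (.inl 0))) + d.θ * d.emb (-v (.inl (.inr 1))) := by
    rw [map_neg, map_neg]; linear_combination e1 + e2'
  obtain ⟨p1, p2⟩ := d.decomp_unique eP
  have eR : d.emb (u (.inl (.inl 1))) + d.θ * d.emb (u (.inl (.inr 0))) =
      d.emb (v (.inl (.inl 1))) + d.θ * d.emb (v (.inl (.inr 0))) := by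
    rw [div_left_inj' hθ, p1, neg_injective p2] at e2'
    linear_combination -e2'
  obtain ⟨r1, r2⟩ := d.decomp_unique eR
  obtain ⟨z1, z2⟩ := d.decomp_unique e0
  funext i
  rcases i with (i | i) | i <;> fin_cases i
  · exact p1
  · exact r1
  · exact r2
  · exact neg_injective p2
  · exact z1
  · exact z2

theorem altPf_twistVec (d : QuadData F K q a b) {c : K} (hc : c * d.σ c = -1)
    (v : (Fin 2 ⊕ Fin 2) ⊕ Fin 2 → F) :
    altPf (twistVec d c v) = d.emb (quadFormMinus 2 F a b v) := by
  have hθ : d.θ - d.σ d.θ ≠ 0 := sub_ne_zero.2 d.theta_ne.symm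
  have hn := d.norm_eq (v (.inr 0)) (v (.inr 1))
  simp only [altPf, twistVec, Matrix.cons_val_zero, Matrix.cons_val_one, Matrix.cons_val, quadFormMinus,
    Fin.sum_univ_two, map_add d.emb, map_mul d.emb]
  simp only [map_add d.emb, map_mul d.emb, map_pow] at hn
  rw [show ∀ z : K, c * z * d.σ (c * z) = -(z * d.σ z) from fun z => by
    rw [map_mul]; linear_combination (z * d.σ z) * hc]
  set al := d.emb (v (.inl (.inl 0)))
  set be := d.emb (v (.inl (.inl 1)))
  set de := d.emb (v (.inl (.inr 0)))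
  set ga := d.emb (v (.inl (.inr 1)))
  set P := al - d.θ * ga with hP
  set R := be + d.θ * de with hR
  set s := (P * d.θ - R) / (d.θ - d.σ d.θ) with hs
  have es : s * (d.θ - d.σ d.θ) = P * d.θ - R := by rw [hs, div_mul_cancel₀ _ hθ]
  have hsP : d.σ P = al - d.σ d.θ * ga := by simp [hP, al, ga, d.sigma_emb]
  have hsR : d.σ R = be + d.σ d.θ * de := by simp [hR, be, de, d.sigma_emb]
  have es' : d.σ s * (d.σ d.θ - d.θ) = d.σ P * d.σ d.θ - d.σ R := by
    have := congrArg d.σ es
    simpa [d.sigma_sigma] using this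
  simp only [map_pow]
  rw [← hn, map_sub d.σ]
  refine mul_right_cancel₀ hθ ?_
  rw [hsP] at *
  rw [hsR] at *
  linear_combination (-(al - d.σ d.θ * ga)) * es + P * es'

variable [Fintype F] [Fintype K]

theorem pomega_six_minus (hF : Fintype.card F = q) (hK : Fintype.card K = q ^ 2) (hab : BinAniso a b) :
    Nonempty (POmega F (quadFormMinus 2 F a b) ≃* PSU 4 K q) := by
  classical
  obtain ⟨d⟩ := exists_quadData hF hK hab
  letI : Algebra F K := d.emb.toAlgebra
  have hsmul : ∀ (t : F) (x : K), t • x = d.emb t * x := fun t x => rfl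
  obtain ⟨c, hc⟩ : ∃ c : K, c * d.σ c = -1 := by
    obtain ⟨c, hc⟩ := CfsgLib.Classical.exists_norm_eq hK (μ := -1) (by rw [← d.sigma_apply, map_neg, map_one])
    exact ⟨c, by rw [d.sigma_apply, ← pow_succ', hc]⟩
  have hc0 : c ≠ 0 := fun e => by simp [e] at hc
  let E : ((Fin 2 ⊕ Fin 2) ⊕ Fin 2 → F) →ₗ[F] (Fin 6 → K) :=
    { toFun := twistVec d c
      map_add' := fun u v => by
        funext i
        fin_cases i <;> simp [twistVec, add_div, sub_div] <;> ring
      map_smul' := fun t v => by
        funext i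
        fin_cases i <;> simp [twistVec, hsmul, d.sigma_emb, mul_div_assoc] <;> ring }
  obtain ⟨φ, hφ⟩ := exists_iso_hom (qExt 2 (qBin a b)) E (twistVec_injective d hc0)
    ((wedgeRep F K).comp (suFour K q)) (fun x => Function.invFun d.emb (altPf x))
    (fun v => by
      show Function.invFun d.emb (altPf (twistVec d c v)) = _
      rw [altPf_twistVec d hc, Function.leftInverse_invFun d.emb.injective, coe_qExt_qBin])
    (fun g x => by
      rw [MonoidHom.comp_apply, wedgeRep_apply, altPf_wedge, suFour_det, one_mul])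
    (fun g v => by
      obtain ⟨w, hw⟩ := exists_twistVec d hc0 (isTwisted_wedge d g (twistVec_isTwisted d c v))
      exact ⟨w, hw⟩)
  have hθ : d.σ d.θ - d.θ ≠ 0 := sub_ne_zero.2 d.theta_ne
  have hker : ∀ g, φ g = 1 ↔ suFour K q g = 1 ∨ suFour K q g = -1 := fun g => by
    constructor
    · intro hg
      have key : ∀ x, IsTwisted d x → wedgeRep K K (suFour K q g) x = x := fun x hx => by
        obtain ⟨v, rfl⟩ := exists_twistVec d hc0 hx
        have h := hφ g v
        rw [hg, isoApply_one, MonoidHom.comp_apply, wedgeRep_apply] at h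
        rw [wedgeRep_apply]
        exact h.symm
      refine eq_one_or_neg_one_of_wedge_fix (suFour_det g) fun x _ => ?_
      -- every vector is a combination of two twisted ones
      let z : Fin 6 → K := fun i => d.σ (altDual x i)
      have t1 : IsTwisted d (x + z) := by
        funext i
        fin_cases i <;> simp [z, altDual, d.sigma_sigma] <;> ring
      have t2 : IsTwisted d (d.θ • x + d.σ d.θ • z) := by
        funext i
        fin_cases i <;> simp [z, altDual, d.sigma_sigma] <;> ring
      have ex : x = (d.σ d.θ - d.θ)⁻¹ • (d.σ d.θ • (x + z) - (d.θ • x + d.σ d.θ • z)) := by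
        funext i
        simp
        field_simp
      rw [← wedgeRep_apply (K := K) K]
      conv_lhs => rw [ex, map_smul, map_sub, map_smul, key _ t1, key _ t2]
      exact ex.symm
    · intro hg
      refine iso_ext fun v => twistVec_injective d hc0 ?_
      show E _ = E _
      rw [hφ, isoApply_one, MonoidHom.comp_apply, wedgeRep_apply]
      rcases hg with e | e <;> rw [e]
      · exact wedgeMat_one _
      · rw [wedgeMat_neg, wedgeMat_one]
  have hneg : ∃ g, suFour K q g = -1 := by
    refine ⟨suMk (-1) (by simp [Matrix.det_neg]; norm_num) fun u v => ?_, rfl⟩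
    simp [hermForm, ← d.sigma_apply, Matrix.neg_mulVec]
  obtain ⟨hk1, hk2⟩ := card_ker_of_signs φ (suFour K q) suFour_injective hker hneg
  have h2iff : (2 : K) = 0 ↔ (2 : F) = 0 := by
    rw [← map_ofNat d.emb, map_eq_zero_iff _ d.emb.injective]
  have hidx : (Omega F ⇑(qExt 2 (qBin a b))).index = 2 * Nat.card φ.ker := by
    by_cases h2 : (2 : F) = 0
    · haveI : CharP F 2 := CharTwo.of_one_ne_zero_of_two_eq_zero one_ne_zero h2
      rw [hk1 (h2iff.2 h2), index_Omega_two _ (polarNondeg_qExt (polarNondeg_qBin hab) 2) (by simp [Fintype.card_sum])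
        (Or.inr (by simp [Fintype.card_sum]))]
    · rw [hk2 (fun h => h2 (h2iff.1 h)),
        index_Omega_odd _ h2 (polarNondeg_qExt (polarNondeg_qBin hab) 2) (by simp [Fintype.card_sum])]
  have hperf : commutator (SU 4 K q) = ⊤ := by
    refine eq_top_iff.2 ?_
    rw [← CfsgLib.Classical.Unitary.su_closure_transvections hK (n := 4) (by norm_num) (by norm_num), Subgroup.closure_le, commutator_eq_closure]
    rintro A ⟨v, t, hv, hA⟩
    exact Subgroup.subset_closure (CfsgLib.Classical.Unitary.su_transvection_mem_commutatorSet hK (by norm_num) A v t hv hA)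
  rw [← coe_qExt_qBin]
  refine nonempty_POmega_equiv _ φ (QuotientGroup.mk' _) (QuotientGroup.mk'_surjective _)
    (fun g hg => ?_) (by rw [QuotientGroup.ker_mk']) (center_quotient_center_of_perfect hperf)
    (range_le_Omega_of_perfect _ φ hperf) hidx ?_
  · rw [QuotientGroup.ker_mk']
    exact mem_center_of_signs (suFour K q) suFour_injective ((hker g).1 hg)
  · refine Nat.eq_of_mul_eq_mul_left (by omega : 0 < q + 1) ?_
    rw [← mul_assoc, card_su hK (by norm_num), Nat.card_congr (isoEquiv _).toEquiv, card_qAut_minus hab, hF]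
    simp [unitaryOrder, Finset.prod_range_succ, Nat.even_iff]
    ring

end CfsgLib.Classical.SmallIso
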