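/-
`PΩ⁺_6(q) ≅ PSL_4(q)`: the exterior square with the Pfaffian.
-/
import Cfsg.Agent.Lib.Classical.SmallIso.AltFour
import Cfsg.Agent.Lib.Classical.SLBasic
import Cfsg.Agent.Lib.Classical.GLOrder

set_option autoImplicit false

namespace CfsgLib.Classical.SmallIso

open Matrix Cfsg

variable {F : Type*} [Field F]

/-- `SL_4` as matrices. -/
def slFour (F : Type*) [Field F] : SpecialLinearGroup (Fin 4) F →* Matrix (Fin 4) (Fin 4) F := slToMat 4 F

/-- Coordinates of the six-dimensional hyperbolic space. -/
def sixCoord (F : Type*) [Field F] : (Fin 3 ⊕ Fin 3 → F) →ₗ[F] (Fin 6 → F) where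
  toFun v := ![v (.inl 0), v (.inl 1), v (.inl 2), v (.inr 2), -v (.inr 1), v (.inr 0)]
  map_add' u v := by funext i; fin_cases i <;> simp [add_comm]
  map_smul' c v := by funext i; fin_cases i <;> simp

theorem sixCoord_surjective : Function.Surjective (sixCoord F) := fun x =>
  ⟨Sum.elim ![x 0, x 1, x 2] ![x 5, -x 4, x 3], by funext i; fin_cases i <;> simp [sixCoord]⟩

theorem sixCoord_injective : Function.Injective (sixCoord F) := by
  intro u v h
  funext i
  rcases i with i | i <;> fin_cases i
  · exact congrFun h 0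
  · exact congrFun h 1
  · exact congrFun h 2
  · exact congrFun h 5
  · exact neg_injective (congrFun h 4)
  · exact congrFun h 3

theorem pomega_six_plus [Fintype F] :
    Nonempty (POmega F (quadFormPlus 3 F) ≃* ProjectiveSpecialLinearGroup (Fin 4) F) := by
  classical
  obtain ⟨φ, hφ⟩ := exists_iso_hom (qPlus 3 F) (sixCoord F) sixCoord_injective
    ((wedgeRep F F).comp (slFour F)) altPf
    (fun v => by simp [sixCoord, altPf, coe_qPlus, quadFormPlus, Fin.sum_univ_three])
    (fun g x => by
      rw [MonoidHom.comp_apply, wedgeRep_apply, altPf_wedge, show (slFour F g).det = 1 from g.2, one_mul])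
    (fun g v => LinearMap.mem_range.2 (sixCoord_surjective _))
  have hm : Function.Injective (slFour F) := fun a b h => Subtype.ext h
  have hker : ∀ g, φ g = 1 ↔ slFour F g = 1 ∨ slFour F g = -1 := fun g => by
    constructor
    · intro hg
      refine eq_one_or_neg_one_of_wedge_fix g.2 fun x _ => ?_
      obtain ⟨v, rfl⟩ := sixCoord_surjective x
      have h := hφ g v
      rw [hg, isoApply_one, MonoidHom.comp_apply, wedgeRep_apply] at h
      exact h.symm
    · intro hg
      refine iso_ext fun v => sixCoord_injective ?_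
      rw [hφ, isoApply_one, MonoidHom.comp_apply, wedgeRep_apply]
      rcases hg with e | e <;> rw [e]
      · exact wedgeMat_one _
      · rw [wedgeMat_neg, wedgeMat_one]
  have hneg : ∃ g, slFour F g = -1 := ⟨⟨-1, by simp [Matrix.det_neg]; norm_num⟩, rfl⟩
  obtain ⟨hk1, hk2⟩ := card_ker_of_signs φ (slFour F) hm hker hneg
  have hidx : (Omega F ⇑(qPlus 3 F)).index = 2 * Nat.card φ.ker := by
    by_cases h2 : (2 : F) = 0
    · haveI : CharP F 2 := CharTwo.of_one_ne_zero_of_two_eq_zero one_ne_zero h2
      rw [hk1 h2, index_Omega_two _ (polarNondeg_qPlus 3) (by simp) (Or.inr (by simp))]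
    · rw [hk2 h2, index_Omega_odd _ h2 (polarNondeg_qPlus 3) (by simp)]
  have hperf : commutator (SpecialLinearGroup (Fin 4) F) = ⊤ :=
    CfsgLib.Classical.commutator_SL_eq_top (by simp)
  rw [← coe_qPlus]
  refine nonempty_POmega_equiv _ φ (QuotientGroup.mk' _) (QuotientGroup.mk'_surjective _)
    (fun g hg => ?_) (by rw [QuotientGroup.ker_mk']) (center_quotient_center_of_perfect hperf)
    (range_le_Omega_of_perfect _ φ hperf) hidx ?_
  · rw [QuotientGroup.ker_mk']
    exact mem_center_of_signs (slFour F) hm ((hker g).1 hg)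
  · have hq : 2 ≤ Fintype.card F := Fintype.one_lt_card
    refine Nat.eq_of_mul_eq_mul_left (by omega : 0 < Fintype.card F - 1) ?_
    rw [← mul_assoc, CfsgLib.Classical.card_SL_mul rfl 4 (by norm_num), Nat.card_congr (isoEquiv _).toEquiv,
      card_qAut_qPlus, card_qAut_plus, Fin.prod_univ_four]
    simp [Finset.prod_range_succ]
    generalize Fintype.card F = q at hq
    have e1 : q ^ 4 - q = q * (q ^ 3 - 1) := by rw [Nat.mul_sub, mul_one, ← pow_succ']
    have e2 : q ^ 4 - q ^ 2 = q ^ 2 * (q ^ 2 - 1) := by rw [Nat.mul_sub, mul_one, ← pow_add]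
    have e3 : q ^ 4 - q ^ 3 = q ^ 3 * (q - 1) := by rw [Nat.mul_sub, mul_one, ← pow_succ]
    rw [e1, e2, e3]
    ring

end CfsgLib.Classical.SmallIso
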