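/-
`O⁺_6(2) ≅ S_8`: the even subsets of eight points modulo complementation.
-/
import Cfsg.Agent.Lib.Classical.QuadPOmega
import Cfsg.Agent.Lib.Classical.SmallIso.MinusFourTwo

set_option autoImplicit false

namespace CfsgLib.Classical.SmallIso

open Matrix Cfsg

/-- Change of the field along an isomorphism. -/
theorem nonempty_isometryGroup_congr {F K : Type*} [Field F] [Field K] {ι : Type} [Fintype ι] [DecidableEq ι]
    (e : F ≃+* K) (Q : (ι → F) → F) (Q' : (ι → K) → K) (h : ∀ v, Q' (fun i => e (v i)) = e (Q v)) :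
    Nonempty (isometryGroup F Q ≃* isometryGroup K Q') := by
  let E : GL ι F ≃* GL ι K := Units.mapEquiv e.mapMatrix.toMulEquiv
  have hE : ∀ (g : GL ι F) (v : ι → F), ((E g : GL ι K) : Matrix ι ι K) *ᵥ (fun i => e (v i)) =
      fun i => e (((g : Matrix ι ι F) *ᵥ v) i) := fun g v => funext fun i =>
    (RingHom.map_mulVec e.toRingHom (g : Matrix ι ι F) v i).symm
  have hmap : (isometryGroup F Q).map E.toMonoidHom = isometryGroup K Q' := by
    ext g
    constructor
    · rintro ⟨g, hg, rfl⟩ u v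
      show Q' (((E g : GL ι K) : Matrix ι ι K) *ᵥ u) = Q' u
      rw [show u = fun i => e (e.symm (u i)) by simp, hE, h, h]
      exact congrArg e (hg _ (fun i => e.symm (v i)))
    · intro hg
      refine ⟨E.symm g, fun u v => ?_, E.apply_symm_apply g⟩
      show Q (((E.symm g : GL ι F) : Matrix ι ι F) *ᵥ u) = Q u
      refine e.injective ?_
      rw [← h, ← hE, E.apply_symm_apply, ← h]
      exact hg _ (fun i => e (v i))
  exact ⟨(E.subgroupMap (isometryGroup F Q)).trans (MulEquiv.subgroupCongr hmap)⟩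

/-- Six sets of four points spanning a hyperbolic basis. -/
def octBasis : Fin 3 ⊕ Fin 3 → Fin 8 → ZMod 2
  | .inl i => ![![1, 1, 1, 1, 0, 0, 0, 0], ![1, 1, 0, 0, 0, 1, 1, 0], ![1, 0, 1, 0, 0, 0, 1, 1]] i
  | .inr i => ![![1, 1, 1, 0, 1, 0, 0, 0], ![1, 1, 0, 0, 0, 1, 0, 1], ![1, 0, 0, 1, 1, 1, 0, 0]] i

/-- The set of a vector. -/
def octSet (v : Fin 3 ⊕ Fin 3 → ZMod 2) : Fin 8 → ZMod 2 := fun j => ∑ i, v i * octBasis i j

/-- The coordinates of a set. -/
def octCoord (x : Fin 8 → ZMod 2) : Fin 3 ⊕ Fin 3 → ZMod 2 := fun i => ∑ j, octBasis i.swap j * x j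

/-- Half the size of a set. -/
def halfWeight (x : Fin 8 → ZMod 2) : ZMod 2 := (((Finset.univ.filter fun j => x j = 1).card / 2 : ℕ) : ZMod 2)

theorem octSet_even : ∀ v, ∑ j, octSet v j = 0 := by decide +kernel
theorem octCoord_octSet : ∀ v, octCoord (octSet v) = v := by decide +kernel
theorem octSet_octCoord : ∀ x : Fin 8 → ZMod 2, ∑ j, x j = 0 →
    octSet (octCoord x) = x ∨ octSet (octCoord x) = fun j => x j + 1 := by decide +kernel
theorem octCoord_compl : ∀ x : Fin 8 → ZMod 2, octCoord (fun j => x j + 1) = octCoord x := by decide +kernel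
theorem quad_octCoord : ∀ x : Fin 8 → ZMod 2, ∑ j, x j = 0 →
    (∑ i : Fin 3, octCoord x (.inl i) * octCoord x (.inr i)) = halfWeight x := by decide +kernel
theorem pair_moved : ∀ a a' b b' : Fin 8, a' ≠ a → b ≠ a → b ≠ a' → b' ≠ a' →
    (fun j => (if j = a' then 1 else 0) + if j = b' then (1 : ZMod 2) else 0) ≠
      (fun j => (if j = a then 1 else 0) + if j = b then 1 else 0) ∧
    (fun j => (if j = a' then 1 else 0) + if j = b' then (1 : ZMod 2) else 0) ≠
      (fun j => (if j = a then 1 else 0) + (if j = b then 1 else 0) + 1) := by decide +kernel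

theorem zmod_two_facts : (1 : ZMod 2) + 1 = 0 ∧ ∀ y z : ZMod 2, y + 1 + 1 = y ∧ (y = z + 1 → z = y + 1) := by decide

/-- The action on vectors. -/
def octAct (σ : Equiv.Perm (Fin 8)) (v : Fin 3 ⊕ Fin 3 → ZMod 2) : Fin 3 ⊕ Fin 3 → ZMod 2 :=
  octCoord fun j => octSet v (σ.symm j)

theorem octAct_mul (σ τ : Equiv.Perm (Fin 8)) (v : Fin 3 ⊕ Fin 3 → ZMod 2) :
    octAct (σ * τ) v = octAct σ (octAct τ v) := by
  have he : ∑ j, octSet v (τ.symm j) = 0 := (Equiv.sum_comp τ.symm (octSet v)).trans (octSet_even v)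
  rcases octSet_octCoord _ he with h | h
  · exact congrArg octCoord (funext fun j => (congrFun h (σ.symm j)).symm)
  · refine Eq.trans ?_ (congrArg octCoord (funext fun j => (congrFun h (σ.symm j)).symm))
    exact (octCoord_compl fun j => octSet v (τ.symm (σ.symm j))).symm

theorem octAct_one (v : Fin 3 ⊕ Fin 3 → ZMod 2) : octAct 1 v = v := octCoord_octSet v

theorem octAct_quad [Fact (Nat.Prime 2)] (σ : Equiv.Perm (Fin 8)) (v : Fin 3 ⊕ Fin 3 → ZMod 2) :
    qPlus 3 (ZMod 2) (octAct σ v) = qPlus 3 (ZMod 2) v := by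
  have he : ∑ j, octSet v (σ.symm j) = 0 := (Equiv.sum_comp σ.symm (octSet v)).trans (octSet_even v)
  rw [coe_qPlus]
  show (∑ i : Fin 3, _) = ∑ i : Fin 3, _
  conv_rhs => rw [← octCoord_octSet v]
  rw [octAct, quad_octCoord _ he, quad_octCoord _ (octSet_even v), halfWeight, halfWeight]
  congr 2
  exact Finset.card_equiv σ.symm (by simp)

theorem plus_six_two_zmod [Fact (Nat.Prime 2)] :
    Nonempty (isometryGroup (ZMod 2) (quadFormPlus 3 (ZMod 2)) ≃* Equiv.Perm (Fin 8)) := by
  let ρ : Equiv.Perm (Fin 8) → ((Fin 3 ⊕ Fin 3 → ZMod 2) →ₗ[ZMod 2] (Fin 3 ⊕ Fin 3 → ZMod 2)) := fun σ =>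
    { toFun := octAct σ
      map_add' := fun u v => funext fun i => by
        simp only [octAct, octCoord, octSet, Pi.add_apply, add_mul, Finset.sum_add_distrib, mul_add]
      map_smul' := fun c v => funext fun i => by
        simp only [octAct, octCoord, octSet, Pi.smul_apply, smul_eq_mul, RingHom.id_apply, Finset.mul_sum]
        exact Finset.sum_congr rfl fun j _ => Finset.sum_congr rfl fun k _ => by ring }
  have hinjρ : ∀ σ, Function.Injective (ρ σ) := fun σ u v h => by
    have := congrArg (octAct σ⁻¹) h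
    simpa [ρ, ← octAct_mul, octAct_one] using this
  let φ : Equiv.Perm (Fin 8) →* isometryGroup (ZMod 2) ⇑(qPlus 3 (ZMod 2)) :=
    MonoidHom.mk' (fun σ => isoMk (Q := ⇑(qPlus 3 (ZMod 2))) (ρ σ) (hinjρ σ) (octAct_quad σ))
      fun σ τ => iso_ext fun v => by rw [isoApply_mul, isoMk_apply, isoMk_apply, isoMk_apply]; exact octAct_mul σ τ v
  have hinj : Function.Injective φ := (injective_iff_map_eq_one φ).2 fun σ hσ => Equiv.ext fun a => by
    by_contra ha
    obtain ⟨b, hb⟩ : ∃ b : Fin 8, b ∉ ({a, σ a} : Finset (Fin 8)) := by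
      by_contra hc
      push Not at hc
      have := Finset.card_le_card (fun x (_ : x ∈ (Finset.univ : Finset (Fin 8))) => hc x)
      simp at this
      have h2 : ({a, σ a} : Finset (Fin 8)).card ≤ 2 := Finset.card_le_two
      omega
    simp only [Finset.mem_insert, Finset.mem_singleton, not_or] at hb
    set x : Fin 8 → ZMod 2 := fun j => (if j = a then 1 else 0) + if j = b then 1 else 0 with hx
    have hev : ∑ j, x j = 0 := by
      simp [hx, Finset.sum_add_distrib]
      exact zmod_two_facts.1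
    have hfix : octAct σ (octCoord x) = octCoord x := by
      have h : isoApply (φ σ) (octCoord x) = octCoord x := by rw [hσ, isoApply_one]
      exact (isoMk_apply (ρ σ) (hinjρ σ) (octAct_quad σ) (octCoord x)).symm.trans h
    have hxs : (fun j => x (σ.symm j)) = fun j => (if j = σ a then 1 else 0) + if j = σ b then (1 : ZMod 2) else 0 :=
      funext fun j => by simp [hx, Equiv.symm_apply_eq]
    have hev' : ∑ j, x (σ.symm j) = 0 := (Equiv.sum_comp σ.symm x).trans hev
    have hsame : octCoord (fun j => x (σ.symm j)) = octCoord x := by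
      conv_rhs => rw [← hfix]
      rcases octSet_octCoord x hev with h | h
      · rw [octAct, h]
      · rw [octAct, h]; exact (octCoord_compl _).symm
    have hne : σ b ≠ σ a := fun h => hb.1 (σ.injective h)
    obtain ⟨h1, h2⟩ := pair_moved a (σ a) b (σ b) ha hb.1 hb.2 hne
    rw [← hxs] at h1 h2
    have e12 := zmod_two_facts.2
    rcases octSet_octCoord x hev with e1 | e1 <;> rcases octSet_octCoord _ hev' with e2 | e2 <;>
      rw [hsame, e1] at e2
    · exact h1 e2.symm
    · exact h2 (funext fun j => (e12 _ _).2 (congrFun e2 j))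
    · exact h2 e2.symm
    · exact h1 (funext fun j => (add_right_cancel (congrFun e2 j)).symm)
  have hcard : Nat.card (isometryGroup (ZMod 2) ⇑(qPlus 3 (ZMod 2))) = Nat.card (Equiv.Perm (Fin 8)) := by
    rw [Nat.card_congr (isoEquiv _).toEquiv, card_qAut_qPlus, card_qAut_plus, ZMod.card, Nat.card_perm, Nat.card_fin]
    decide
  rw [← coe_qPlus]
  exact ⟨(MulEquiv.ofBijective φ ((Nat.bijective_iff_injective_and_card φ).2 ⟨hinj, hcard.symm⟩)).symm⟩

theorem plus_six_two {F : Type*} [Field F] [Fintype F] (hF : Fintype.card F = 2) :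
    Nonempty (isometryGroup F (quadFormPlus 3 F) ≃* Equiv.Perm (Fin 8)) := by
  haveI : Fact (Nat.Prime 2) := ⟨Nat.prime_two⟩
  let e : ZMod 2 ≃+* F := ZMod.ringEquivOfPrime F Nat.prime_two hF
  obtain ⟨E⟩ := nonempty_isometryGroup_congr e (quadFormPlus 3 (ZMod 2)) (quadFormPlus 3 F) fun v => by
    simp [quadFormPlus]
  obtain ⟨P⟩ := plus_six_two_zmod
  exact ⟨E.symm.trans P⟩

end CfsgLib.Classical.SmallIso
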