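/-
`PSU_3(2)` is `3²:Q_8`.
-/
import Cfsg.Agent.Lib.Classical.SmallIso.QuartField
import Cfsg.Agent.Lib.Classical.HermOrder

set_option autoImplicit false

namespace CfsgLib.Classical.SmallIso

open Matrix Cfsg

/-- Unimodular unitary matrices over the model. -/
def unitW4 : Submonoid (Matrix (Fin 3) (Fin 3) W4) where
  carrier := {X | X.det = 1 ∧ Xᵀ * X.map W4.sq = 1}
  one_mem' := ⟨Matrix.det_one, by simp [Matrix.map_one]⟩
  mul_mem' := fun {X Y} hX hY => ⟨by rw [Matrix.det_mul, hX.1, hY.1, one_mul], by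
    rw [Matrix.transpose_mul, Matrix.map_mul, Matrix.mul_assoc, ← Matrix.mul_assoc Xᵀ, hX.2, Matrix.one_mul, hY.2]⟩

/-- A scalar. -/
def sc3 (k : ZMod 3) : Matrix (Fin 3) (Fin 3) W4 := Matrix.scalar (Fin 3) (W4.w ^ k.val)

/-- The elementary abelian part, up to scalars. -/
def heis (x : ZMod 3 × ZMod 3) : Matrix (Fin 3) (Fin 3) W4 :=
  (Matrix.diagonal ![1, W4.w, W4.w * W4.w]) ^ x.1.val * (!![0, 0, 1; 1, 0, 0; 0, 1, 0] : Matrix (Fin 3) (Fin 3) W4) ^ x.2.val

/-- The first generator of the quaternion group. -/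
def qA : Matrix (Fin 3) (Fin 3) W4 := !![1, 1, 1; 1, W4.w, W4.w * W4.w; 1, W4.w * W4.w, W4.w]

/-- The second generator of the quaternion group. -/
def qB : Matrix (Fin 3) (Fin 3) W4 :=
  !![1, W4.w, W4.w; W4.w * W4.w, W4.w, W4.w * W4.w; W4.w * W4.w, W4.w * W4.w, W4.w]

/-- The quaternion group in the model. -/
def quat : QuaternionGroup 2 → Matrix (Fin 3) (Fin 3) W4
  | .a i => qA ^ i.val
  | .xa i => qB * qA ^ i.val

theorem zmod_four_cases : ∀ i : ZMod (2 * 2), i = 0 ∨ i = 1 ∨ i = 2 ∨ i = 3 := by decide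

theorem generators_mem : (Matrix.diagonal ![1, W4.w, W4.w * W4.w] : Matrix (Fin 3) (Fin 3) W4) ∈ unitW4 ∧
    (!![0, 0, 1; 1, 0, 0; 0, 1, 0] : Matrix (Fin 3) (Fin 3) W4) ∈ unitW4 ∧ qA ∈ unitW4 ∧ qB ∈ unitW4 := by
  refine ⟨⟨?_, ?_⟩, ⟨?_, ?_⟩, ⟨?_, ?_⟩, ⟨?_, ?_⟩⟩
  all_goals first
    | (rw [Matrix.det_fin_three]; decide +kernel)
    | decide +kernel

theorem heis_mem (x : ZMod 3 × ZMod 3) : heis x ∈ unitW4 :=
  mul_mem (pow_mem generators_mem.1 _) (pow_mem generators_mem.2.1 _)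

theorem quat_mem (r : QuaternionGroup 2) : quat r ∈ unitW4 := by
  rcases r with i | i
  · exact pow_mem generators_mem.2.2.1 _
  · exact mul_mem generators_mem.2.2.2 (pow_mem generators_mem.2.2.1 _)

theorem heis_mul : ∀ x y, ∃ k, heis x * heis y = sc3 k * heis (x + y) := by decide +kernel
theorem quat_mul : ∀ i j : ZMod (2 * 2), quat (.a i) * quat (.a j) = quat (.a i * .a j) ∧
    quat (.a i) * quat (.xa j) = quat (.a i * .xa j) ∧ quat (.xa i) * quat (.a j) = quat (.xa i * .a j) ∧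
    quat (.xa i) * quat (.xa j) = quat (.xa i * .xa j) := by decide +kernel
theorem qA_conj : ∀ x, ∃ y k, qA * heis x = sc3 k * heis y * qA := by decide +kernel
theorem qB_conj : ∀ x, ∃ y k, qB * heis x = sc3 k * heis y * qB := by decide +kernel
theorem heis_central : ∀ x, x ≠ 0 → heis x * qA ≠ qA * heis x ∨
    heis x * Matrix.diagonal ![1, W4.w, W4.w * W4.w] ≠ Matrix.diagonal ![1, W4.w, W4.w * W4.w] * heis x := by
  decide +kernel
theorem quat_central_a : ∀ i : ZMod (2 * 2), i ≠ 0 →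
    quat (.a i) * Matrix.diagonal ![1, W4.w, W4.w * W4.w] ≠ Matrix.diagonal ![1, W4.w, W4.w * W4.w] * quat (.a i) := by
  decide +kernel
theorem quat_central_xa : ∀ i : ZMod (2 * 2),
    quat (.xa i) * Matrix.diagonal ![1, W4.w, W4.w * W4.w] ≠ Matrix.diagonal ![1, W4.w, W4.w * W4.w] * quat (.xa i) := by
  decide +kernel

theorem su_three_two {F : Type*} [Field F] [Fintype F] (hF : Fintype.card F = 4) :
    ∃ (N : Subgroup (PSU 3 F 2)) (_ : N.Normal), Nat.card N = 9 ∧ (∀ x ∈ N, x ^ 3 = 1) ∧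
      Nonempty (PSU 3 F 2 ⧸ N ≃* QuaternionGroup 2) := by
  classical
  obtain ⟨φ, hφinj, hφsq⟩ := W4.exists_hom hF
  have hF' : Fintype.card F = 2 ^ 2 := hF
  have hform : ∀ X : unitW4, ∀ u v, hermForm 3 F 2 ((X.1.map φ) *ᵥ u) ((X.1.map φ) *ᵥ v) = hermForm 3 F 2 u v := by
    intro X u v
    have hX : (X.1.map φ)ᵀ * (X.1.map φ).map (· ^ 2) = 1 := by
      have h := congrArg (fun Y : Matrix (Fin 3) (Fin 3) W4 => Y.map φ) X.2.2
      simp only [Matrix.map_mul, Matrix.map_one, map_zero, map_one, Matrix.transpose_map, Matrix.map_map] at h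
      rw [← h]
      congr 1
      ext i j
      simp [hφsq]
    obtain ⟨σ, hσ, -, -⟩ := exists_qPow hF'
    have e1 : ∀ (u v : Fin 3 → F), hermForm 3 F 2 u v = u ⬝ᵥ (σ ∘ v) := fun u v => by
      simp [hermForm, dotProduct, hσ]
    have e2 : σ ∘ ((X.1.map φ) *ᵥ v) = (X.1.map φ).map σ *ᵥ (σ ∘ v) := funext fun i => RingHom.map_mulVec σ _ v i
    rw [e1, e1, e2, Matrix.dotProduct_mulVec, ← Matrix.vecMul_transpose, Matrix.vecMul_vecMul,
      show ((X.1.map φ).map σ : Matrix (Fin 3) (Fin 3) F) = (X.1.map φ).map (· ^ 2) from congrArg _ (funext hσ), hX,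
      Matrix.vecMul_one]
  let Φ : unitW4 →* SU 3 F 2 := MonoidHom.mk'
    (fun X => suMk (X.1.map φ) (by rw [← RingHom.mapMatrix_apply, ← RingHom.map_det, X.2.1, map_one]) (hform X))
    fun X Y => Subtype.ext (Subtype.ext Matrix.map_mul)
  let π : SU 3 F 2 →* PSU 3 F 2 := QuotientGroup.mk' _
  let ev : ∀ X : Matrix (Fin 3) (Fin 3) W4, X ∈ unitW4 → PSU 3 F 2 := fun X h => π (Φ ⟨X, h⟩)
  have hcomm : ∀ X Y (hX : X ∈ unitW4) (hY : Y ∈ unitW4), ev X hX = 1 → X * Y = Y * X := fun X Y hX hY h => by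
    have hc : Φ ⟨X, hX⟩ ∈ Subgroup.center (SU 3 F 2) := (QuotientGroup.eq_one_iff _).1 h
    have h1 : (Φ (⟨Y, hY⟩ * ⟨X, hX⟩)) = Φ (⟨X, hX⟩ * ⟨Y, hY⟩) := by
      rw [map_mul, map_mul]; exact Subgroup.mem_center_iff.1 hc _
    exact (Matrix.map_injective hφinj (congrArg (fun g : SU 3 F 2 => g.1.1) h1)).symm
  have hscal : ∀ k X Y (hX : X ∈ unitW4) (hY : Y ∈ unitW4), X = sc3 k * Y → ev X hX = ev Y hY := by
    intro k X Y hX hY h
    refine QuotientGroup.eq.2 (Subgroup.mem_center_iff.2 fun g => ?_)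
    have hval : ((Φ ⟨X, hX⟩)⁻¹ * Φ ⟨Y, hY⟩).1.1 * g.1.1 = g.1.1 * ((Φ ⟨X, hX⟩)⁻¹ * Φ ⟨Y, hY⟩).1.1 := by
      set c := φ (W4.w ^ k.val) with hc
      have hXY : (Φ ⟨X, hX⟩).1.1 = c • (Φ ⟨Y, hY⟩).1.1 := by
        show X.map φ = c • Y.map φ
        rw [h, sc3, Matrix.scalar_apply, ← Matrix.smul_eq_diagonal_mul]
        ext i j
        simp [hc]
      have h1 : ((Φ ⟨X, hX⟩)⁻¹).1.1 * (Φ ⟨X, hX⟩).1.1 = 1 :=
        congrArg (fun g : SU 3 F 2 => g.1.1) (inv_mul_cancel (Φ ⟨X, hX⟩))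
      rw [hXY, Matrix.mul_smul] at h1
      have hc0 : c ≠ 0 := fun e => by rw [e, zero_smul] at h1; exact zero_ne_one h1
      have h2 : ((Φ ⟨X, hX⟩)⁻¹).1.1 * (Φ ⟨Y, hY⟩).1.1 = c⁻¹ • 1 := by
        rw [← h1, smul_smul, inv_mul_cancel₀ hc0, one_smul]
      show ((Φ ⟨X, hX⟩)⁻¹).1.1 * (Φ ⟨Y, hY⟩).1.1 * g.1.1 = g.1.1 * (((Φ ⟨X, hX⟩)⁻¹).1.1 * (Φ ⟨Y, hY⟩).1.1)
      rw [h2, Matrix.smul_mul, Matrix.mul_smul, Matrix.one_mul, Matrix.mul_one]
    exact Subtype.ext (Subtype.ext hval.symm)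
  have hmul : ∀ X Y (hX : X ∈ unitW4) (hY : Y ∈ unitW4), ev X hX * ev Y hY = ev (X * Y) (mul_mem hX hY) :=
    fun X Y hX hY => by
      show π _ * π _ = π _
      rw [← map_mul, ← map_mul]; rfl
  let a : Multiplicative (ZMod 3 × ZMod 3) →* PSU 3 F 2 :=
    MonoidHom.mk' (fun x => ev _ (heis_mem x.toAdd)) fun x y => by
      obtain ⟨k, hk⟩ := heis_mul x.toAdd y.toAdd
      rw [hmul]
      exact (hscal k _ _ _ _ hk).symm
  let b : QuaternionGroup 2 →* PSU 3 F 2 := MonoidHom.mk' (fun r => ev _ (quat_mem r)) fun r s => by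
    rw [hmul]
    have : quat r * quat s = quat (r * s) := by
      rcases r with i | i <;> rcases s with j | j
      exacts [(quat_mul i j).1, (quat_mul i j).2.1, (quat_mul i j).2.2.1, (quat_mul i j).2.2.2]
    simp only [this]
  have ha : Function.Injective a := (injective_iff_map_eq_one a).2 fun x hx => by
    by_contra h
    rcases heis_central x.toAdd (fun e => h (Multiplicative.toAdd.injective e)) with e | e
    · exact e (hcomm _ _ _ generators_mem.2.2.1 hx)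
    · exact e (hcomm _ _ _ generators_mem.1 hx)
  have hb : Function.Injective b := (injective_iff_map_eq_one b).2 fun r hr => by
    have h := hcomm _ _ _ generators_mem.1 hr
    rcases r with i | i
    · by_contra hi
      exact quat_central_a i (fun e => hi (by rw [e]; rfl)) h
    · exact absurd h (quat_central_xa i)
  set N := a.range with hN
  have hcardN : Nat.card N = 9 := by
    rw [hN, ← Nat.card_congr (MonoidHom.ofInjective ha).toEquiv, Nat.card_congr Multiplicative.toAdd, Nat.card_prod,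
      Nat.card_zmod]
  have hexp : ∀ x ∈ N, x ^ 3 = 1 := by
    rintro _ ⟨x, rfl⟩
    rw [← map_pow, show x ^ 3 = 1 from Multiplicative.toAdd.injective (by
      rw [toAdd_pow, toAdd_one]
      exact (show ∀ y : ZMod 3 × ZMod 3, 3 • y = 0 by decide) _), map_one]
  have hgen : ∀ r, b r ∈ Subgroup.normalizer (N : Set (PSU 3 F 2)) := by
    have hstep : ∀ X (hX : X ∈ unitW4), (∀ x, ∃ y k, X * heis x = sc3 k * heis y * X) →
        ev X hX ∈ Subgroup.normalizer (N : Set (PSU 3 F 2)) := by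
      intro X hX h
      refine Subgroup.mem_normalizer_fintype ?_
      rintro _ ⟨x, rfl⟩
      obtain ⟨y, k, hk⟩ := h x.toAdd
      refine ⟨Multiplicative.ofAdd y, ?_⟩
      show ev _ (heis_mem y) = ev X hX * ev _ (heis_mem x.toAdd) * (ev X hX)⁻¹
      rw [eq_mul_inv_iff_mul_eq, hmul, hmul]
      exact (hscal k _ _ _ _ (by rw [← mul_assoc]; exact hk)).symm
    have hA := hstep qA generators_mem.2.2.1 qA_conj
    have hB := hstep qB generators_mem.2.2.2 qB_conj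
    have hp : ∀ n : ℕ, ev (qA ^ n) (pow_mem generators_mem.2.2.1 n) ∈ Subgroup.normalizer (N : Set (PSU 3 F 2)) := by
      intro n
      have e : ev (qA ^ n) (pow_mem generators_mem.2.2.1 n) = ev qA generators_mem.2.2.1 ^ n :=
        ((π.comp Φ).map_pow ⟨qA, generators_mem.2.2.1⟩ n)
      rw [e]; exact pow_mem hA n
    intro r
    rcases r with i | i
    · exact hp _
    · show ev (qB * qA ^ i.val) _ ∈ _
      rw [← hmul _ _ generators_mem.2.2.2 (pow_mem generators_mem.2.2.1 _)]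
      exact mul_mem hB (hp _)
  have hcard : Nat.card (PSU 3 F 2) = 72 := by
    have h1 := card_su hF' (by norm_num : 1 ≤ 3)
    have h2 := card_center_su hF' (by norm_num : 2 ≤ 3)
    have h3 := Subgroup.card_eq_card_quotient_mul_card_subgroup (Subgroup.center (SU 3 F 2))
    rw [h2] at h3
    simp [unitaryOrder, Finset.prod_range_succ, Nat.even_iff, -Nat.card_eq_fintype_card] at h1
    rw [show Nat.gcd 3 (2 + 1) = 3 by decide] at h3
    show Nat.card (SU 3 F 2 ⧸ _) = _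
    omega
  haveI : Finite (PSU 3 F 2) := Nat.finite_of_card_ne_zero (by rw [hcard]; norm_num)
  have hdisj : ∀ r, b r ∈ N → r = 1 := fun r hr => by
    have h3 : r ^ 3 = 1 := hb (by rw [map_pow, map_one]; exact hexp _ hr)
    have h8 : r ^ 8 = 1 := by
      have := pow_card_eq_one' (x := r)
      rwa [Nat.card_eq_fintype_card, show Fintype.card (QuaternionGroup 2) = 8 by rw [QuaternionGroup.card]] at this
    have := Nat.dvd_gcd (orderOf_dvd_of_pow_eq_one h3) (orderOf_dvd_of_pow_eq_one h8)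
    exact orderOf_eq_one_iff.1 (Nat.dvd_one.1 this)
  have hbij : Function.Bijective (fun p : N × QuaternionGroup 2 => (p.1 : PSU 3 F 2) * b p.2) := by
    refine (Nat.bijective_iff_injective_and_card _).2 ⟨fun p p' h => ?_, ?_⟩
    · have h' : (p'.1 : PSU 3 F 2)⁻¹ * p.1 = b (p'.2 * p.2⁻¹) := by
        rw [map_mul, map_inv, eq_mul_inv_iff_mul_eq, mul_assoc]
        exact inv_mul_eq_iff_eq_mul.2 h
      have e := hdisj _ (h' ▸ mul_mem (inv_mem p'.1.2) p.1.2)
      rw [mul_inv_eq_one] at e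
      have h2 : (p.1 : PSU 3 F 2) * b p.2 = p'.1 * b p'.2 := h
      rw [e] at h2
      exact Prod.ext (Subtype.ext (mul_right_cancel h2)) e.symm
    · rw [Nat.card_prod, hcardN, hcard, Nat.card_eq_fintype_card, QuaternionGroup.card]
  haveI hnorm : N.Normal := Subgroup.normalizer_eq_top_iff.1 (eq_top_iff.2 fun g _ => by
    obtain ⟨⟨n, r⟩, rfl⟩ := hbij.2 g
    exact mul_mem (Subgroup.le_normalizer n.2) (hgen r))
  refine ⟨N, hnorm, hcardN, hexp, ⟨(MulEquiv.ofBijective ((QuotientGroup.mk' N).comp b) ⟨?_, ?_⟩).symm⟩⟩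
  · exact (injective_iff_map_eq_one _).2 fun r hr => hdisj r ((QuotientGroup.eq_one_iff _).1 hr)
  · intro x
    obtain ⟨g, rfl⟩ := QuotientGroup.mk'_surjective N x
    obtain ⟨⟨n, r⟩, rfl⟩ := hbij.2 g
    exact ⟨r, by simp [(QuotientGroup.eq_one_iff (n : PSU 3 F 2)).2 n.2]⟩

end CfsgLib.Classical.SmallIso
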