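/-
`SU_4(2) ≅ PSp_4(3)` through the two actions on forty lines.
-/
import Mathlib
import Cfsg.Agent.Lib.Classical.SmallIso.UFourData
import Cfsg.Agent.Lib.Classical.UnitaryPSU
import Cfsg.Agent.Lib.Classical.HermOrder
import Cfsg.Agent.Lib.Classical.SpOrder
import Cfsg.Agent.Lib.Classical.SpCenter

set_option autoImplicit false

namespace CfsgLib.Classical.SmallIso.UFour

open Matrix Cfsg

/-- A group permuting finitely many lines. -/
theorem exists_line_hom {K G : Type*} [Field K] [Group G] {ι : Type} [Fintype ι] [DecidableEq ι]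
    {n : ℕ} (act : G →* Matrix ι ι K) (rep : Fin n → ι → K) (P : (ι → K) → Prop) (hP : ∀ i, P (rep i))
    (hinv : ∀ g v, P v → P (act g *ᵥ v)) (hcov : ∀ v, P v → ∃ i, ∃ c : K, c ≠ 0 ∧ v = c • rep i)
    (huniq : ∀ i j (c : K), rep i = c • rep j → i = j) :
    ∃ ρ : G →* Equiv.Perm (Fin n), (∀ g i, ∃ c : K, c ≠ 0 ∧ act g *ᵥ rep i = c • rep (ρ g i)) ∧
      ∀ g i j (c : K), act g *ᵥ rep i = c • rep j → ρ g i = j := by
  classical
  choose f c hc hf using fun g i => hcov _ (hinv g _ (hP i))
  have huniq' : ∀ g i j (d : K), act g *ᵥ rep i = d • rep j → f g i = j := fun g i j d h => by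
    refine huniq _ _ ((c g i)⁻¹ * d) ?_
    rw [mul_smul, ← h, hf, smul_smul, inv_mul_cancel₀ (hc g i), one_smul]
  have hmul : ∀ g h i, f (g * h) i = f g (f h i) := fun g h i => by
    refine huniq' _ _ _ (c h i * c g (f h i)) ?_
    rw [map_mul, ← Matrix.mulVec_mulVec, hf, Matrix.mulVec_smul, hf, smul_smul]
  have hone : ∀ i, f 1 i = i := fun i => huniq' _ _ _ 1 (by rw [map_one, Matrix.one_mulVec, one_smul])
  exact ⟨MonoidHom.mk' (fun g => ⟨f g, f g⁻¹, fun i => by rw [← hmul, inv_mul_cancel, hone],
      fun i => by rw [← hmul, mul_inv_cancel, hone]⟩) fun g h => Equiv.ext (hmul g h),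
    fun g i => ⟨c g i, hc g i, hf g i⟩, huniq'⟩

/-- A diagonal map fixing the line of a vector of entries `0` and `1` is constant on its support. -/
theorem eigen_eq {K : Type*} [Field K] {ι : Type} [Fintype ι] [DecidableEq ι] (M : Matrix ι ι K) (d : ι → K)
    (hd : ∀ i, M *ᵥ Pi.single i 1 = d i • Pi.single i 1) {x : ι → K} {c : K} (hx : M *ᵥ x = c • x)
    {i : ι} (hi : x i ≠ 0) : d i = c := by
  have hM : M = Matrix.diagonal d := Matrix.ext fun a b => by
    have h := congrFun (hd b) a
    rw [Matrix.mulVec_single_one] at h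
    simp only [Matrix.col_apply, Pi.smul_apply, smul_eq_mul] at h
    rw [h, Matrix.diagonal_apply, Pi.single_apply]
    split_ifs with hab
    · subst hab; simp
    · simp
  have h := congrFun hx i
  rw [hM, Matrix.mulVec_diagonal, Pi.smul_apply, smul_eq_mul] at h
  exact mul_right_cancel₀ hi h

theorem exists_code {F : Type*} [Field F] [Fintype F] (hF : Fintype.card F = 4) :
    ∃ e : Fin 4 ≃ F, e 0 = 0 ∧ e 1 = 1 ∧ (∀ x y, e (add4 x y) = e x + e y) ∧ ∀ x y, e (mul4 x y) = e x * e y := by
  classical
  haveI : CharP F 2 := ringChar.of_eq (FiniteField.even_card_iff_char_two.2 (by rw [hF]))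
  obtain ⟨w, hw⟩ : ∃ w : F, w ∉ ({0, 1} : Finset F) := by
    by_contra h
    push Not at h
    have := Finset.card_le_card (fun x (_ : x ∈ (Finset.univ : Finset F)) => h x)
    rw [Finset.card_univ, hF] at this
    exact absurd this (by simp)
  simp only [Finset.mem_insert, Finset.mem_singleton, not_or] at hw
  have h3 : w ^ 3 = 1 := by
    have := FiniteField.pow_card_sub_one_eq_one w hw.1
    rwa [hF] at this
  have h2 : (2 : F) = 0 := CharTwo.two_eq_zero
  have hq : w * w + w + 1 = 0 :=
    (mul_eq_zero.1 (show (w - 1) * (w * w + w + 1) = 0 by linear_combination h3)).resolve_left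
      (sub_ne_zero.2 hw.2)
  let f : Fin 4 → F := ![0, 1, w, 1 + w]
  have hadd : ∀ x y, f (add4 x y) = f x + f y := by
    intro x y
    fin_cases x <;> fin_cases y
    all_goals simp [f, add4, Fin.ofNat]
    all_goals first
      | linear_combination (-w : F) * h2 | linear_combination (w : F) * h2 | linear_combination (-1 : F) * h2
      | linear_combination h2 | linear_combination (-1 - w : F) * h2 | linear_combination (1 + w : F) * h2
      | ring
  have hmul : ∀ x y, f (mul4 x y) = f x * f y := by
    intro x y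
    fin_cases x <;> fin_cases y
    all_goals simp [f, mul4]
    all_goals first
      | linear_combination (-1 : F) * hq + h2 | linear_combination (-1 : F) * hq + (1 + w) * h2
      | linear_combination (-1 : F) * hq + w * h2 | linear_combination hq - h2 | linear_combination hq - (1 + w) * h2
      | linear_combination hq - w * h2 | linear_combination (-1 : F) * hq | linear_combination hq | ring
  have hinj : Function.Injective f := by
    intro x y h
    fin_cases x <;> fin_cases y <;> simp [f] at h ⊢
    all_goals first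
      | exact hw.1 h | exact hw.1 h.symm | exact hw.2 h | exact hw.2 h.symm
      | exact hw.1 (by linear_combination h) | exact hw.1 (by linear_combination -h)
      | exact hw.2 (by linear_combination h - h2) | exact hw.2 (by linear_combination -h - h2)
  exact ⟨Equiv.ofBijective f ((Fintype.bijective_iff_injective_and_card f).2 ⟨hinj, by simp [hF]⟩), rfl, rfl,
    hadd, hmul⟩

section

variable {F K : Type*} [Field F] [Fintype F] [Field K] [Fintype K]

/-- The action on the non-isotropic lines. -/
theorem exists_unitary_action (hF : Fintype.card F = 4) :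
    ∃ (e : Fin 4 ≃ F) (ρ : SU 4 F 2 →* Equiv.Perm (Fin 40)), Function.Injective ρ ∧
      ∀ A : SU 4 F 2, ∀ v : Fin 4 → F, ∀ c : F, hermForm 4 F 2 v v = 0 →
        ((A : SpecialLinearGroup (Fin 4) F) : Matrix (Fin 4) (Fin 4) F) = unitaryTransvection 4 2 v c →
        A = 1 ∨ ∃ j, ∀ i, ρ A i = pMap j i := by
  classical
  haveI : CharP F 2 := ringChar.of_eq (FiniteField.even_card_iff_char_two.2 (by rw [hF]))
  have h2 : (2 : F) = 0 := CharTwo.two_eq_zero
  obtain ⟨e, e0, e1, eadd, emul⟩ := exists_code hF
  have hherm : ∀ u v : Fin 4 → Fin 4, hermForm 4 F 2 (fun k => e (u k)) (fun k => e (v k)) = e (herm4 u v) :=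
    fun u v => by simp [hermForm, herm4, eadd, emul, Fin.sum_univ_four, sq]
  let rep : Fin 40 → Fin 4 → F := fun i k => e (nVec i k)
  let act : SU 4 F 2 →* Matrix (Fin 4) (Fin 4) F :=
    (slToMat 4 F).comp (SU 4 F 2).subtype
  have hact : ∀ A : SU 4 F 2, act A = ((A : SpecialLinearGroup (Fin 4) F) : Matrix (Fin 4) (Fin 4) F) :=
    fun A => rfl
  have hpres : ∀ (A : SU 4 F 2) (u v : Fin 4 → F),
      hermForm 4 F 2 (act A *ᵥ u) (act A *ᵥ v) = hermForm 4 F 2 u v := fun A u v => A.2 u v
  obtain ⟨ρ, hρ, hρ'⟩ := exists_line_hom act rep (fun v => hermForm 4 F 2 v v ≠ 0)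
    (fun i h => herm4_nVec i (e.injective (by rw [← hherm, h, e0])))
    (fun A v hv => by rwa [hpres])
    (fun v hv => by
      obtain ⟨i, s, hs, h0, h1, h2', h3⟩ := nVec_cover (e.symm (v 0)) (e.symm (v 1)) (e.symm (v 2)) (e.symm (v 3))
        fun h => hv (by
          have := hherm ![e.symm (v 0), e.symm (v 1), e.symm (v 2), e.symm (v 3)]
            ![e.symm (v 0), e.symm (v 1), e.symm (v 2), e.symm (v 3)]
          rw [h, e0] at this
          convert this using 2 <;> funext k <;> fin_cases k <;> simp)
      refine ⟨i, e s, fun h => hs (e.injective (h.trans e0.symm)), funext fun k => ?_⟩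
      show v k = e s * e (nVec i k)
      rw [← emul]
      fin_cases k <;> simp [← h0, ← h1, ← h2', ← h3])
    (fun i j c h => nVec_unique i j (e.symm c) fun k => e.injective (by
      rw [emul, e.apply_symm_apply]; exact congrFun h k))
  refine ⟨e, ρ, (injective_iff_map_eq_one _).2 fun A hA => ?_, fun A v c hv hA => ?_⟩
  · have hfix : ∀ i (w : Fin 4 → Fin 4), (∀ k, nVec i k = w k) →
        ∃ d : F, act A *ᵥ (fun k => e (w k)) = d • fun k => e (w k) := by
      intro i w hw
      obtain ⟨d, -, hd⟩ := hρ A i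
      rw [hA, Equiv.Perm.one_apply] at hd
      rw [show (fun k => e (w k)) = rep i from funext fun k => by rw [← hw k]]
      exact ⟨d, hd⟩
    obtain ⟨e12, e2, e1', e0', e25, e3⟩ := nVec_special
    obtain ⟨d0, hd0⟩ := hfix _ _ e12
    obtain ⟨d1, hd1⟩ := hfix _ _ e2
    obtain ⟨d2, hd2⟩ := hfix _ _ e1'
    obtain ⟨d3, hd3⟩ := hfix _ _ e0'
    obtain ⟨a, ha⟩ := hfix _ _ e25
    obtain ⟨b, hb⟩ := hfix _ _ e3
    have hd : ∀ i, act A *ᵥ Pi.single i 1 = ![d0, d1, d2, d3] i • (Pi.single i 1 : Fin 4 → F) := by
      intro i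
      fin_cases i
      · convert hd0 using 3 <;> first | rfl | (rename_i k; fin_cases k <;> simp [e0, e1])
      · convert hd1 using 3 <;> first | rfl | (rename_i k; fin_cases k <;> simp [e0, e1])
      · convert hd2 using 3 <;> first | rfl | (rename_i k; fin_cases k <;> simp [e0, e1])
      · convert hd3 using 3 <;> first | rfl | (rename_i k; fin_cases k <;> simp [e0, e1])
    have a0 : d0 = a := eigen_eq _ _ hd ha (i := 0) (by simp [e1])
    have a1 : d1 = a := eigen_eq _ _ hd ha (i := 1) (by simp [e1])
    have a2 : d2 = a := eigen_eq _ _ hd ha (i := 2) (by simp [e1])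
    have b1 : d1 = b := eigen_eq _ _ hd hb (i := 1) (by simp [e1])
    have b3 : d3 = b := eigen_eq _ _ hd hb (i := 3) (by simp [e1])
    have hall : ∀ i, ![d0, d1, d2, d3] i = a := by
      intro i
      fin_cases i <;> simp [a0, a1, a2, b3, b1.symm.trans a1]
    have hM : act A = a • (1 : Matrix (Fin 4) (Fin 4) F) := Matrix.ext fun i j => by
      have h := congrFun (hd j) i
      rw [Matrix.mulVec_single_one] at h
      simp only [Matrix.col_apply, Pi.smul_apply, smul_eq_mul, hall j] at h
      rw [h, Matrix.smul_apply, Matrix.one_apply, Pi.single_apply, smul_eq_mul]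
    have hdet : a ^ 4 = 1 := by
      have := congrArg Matrix.det hM
      rw [Matrix.det_smul, Matrix.det_one, mul_one, Fintype.card_fin] at this
      rw [← this, hact]
      exact (A : SpecialLinearGroup (Fin 4) F).2
    have ha0 : a ≠ 0 := by rintro rfl; simp at hdet
    have ha3 : a ^ 3 = 1 := by
      have := FiniteField.pow_card_sub_one_eq_one a ha0
      rwa [hF] at this
    have ha1 : a = 1 := by
      rw [pow_succ, ha3, one_mul] at hdet
      exact hdet
    refine Subtype.ext (Subtype.ext ?_)
    show act A = _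
    rw [hM, ha1, one_smul]
    rfl
  · by_cases hc : c • vecMulVec v (fun j => v j ^ 2) = 0
    · left
      refine Subtype.ext (Subtype.ext ?_)
      rw [hA, unitaryTransvection, hc, add_zero]
      rfl
    right
    have hc0 : c ≠ 0 := fun h => hc (by rw [h, zero_smul])
    obtain ⟨k, hk⟩ : ∃ k, v k ≠ 0 := by
      by_contra h
      push Not at h
      exact hc (by rw [show v = 0 from funext h]; simp)
    have hmv : ∀ x : Fin 4 → F, act A *ᵥ x = x + (c * hermForm 4 F 2 x v) • v := fun x => by
      rw [hact, hA, unitaryTransvection, Matrix.add_mulVec, Matrix.one_mulVec, Matrix.smul_mulVec,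
        Matrix.vecMulVec_mulVec, op_smul_eq_smul, smul_smul]
      congr 3
      rw [hermForm, dotProduct]
      exact Finset.sum_congr rfl fun j _ => mul_comm _ _
    have hv4 : v 0 * v 0 ^ 2 + v 1 * v 1 ^ 2 + v 2 * v 2 ^ 2 + v 3 * v 3 ^ 2 = 0 := by
      rw [← hv, hermForm, Fin.sum_univ_four]
    have hcc : c + c ^ 2 = 0 := by
      have h := hpres A (Pi.single k 1) (Pi.single k 1)
      have hek : hermForm 4 F 2 (Pi.single k 1) v = v k ^ 2 := by simp [hermForm, Pi.single_apply]
      rw [hmv, hek] at h
      have hexp : ∀ (x : Fin 4 → F) (a : F), hermForm 4 F 2 (x + a • v) (x + a • v) =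
          hermForm 4 F 2 x x + a * hermForm 4 F 2 v x + a ^ 2 * hermForm 4 F 2 x v + a ^ 3 * hermForm 4 F 2 v v := by
        intro x a
        simp only [hermForm, Fin.sum_univ_four, Pi.add_apply, Pi.smul_apply, smul_eq_mul, add_sq, h2, zero_mul,
          add_zero]
        ring
      have hke : hermForm 4 F 2 v (Pi.single k 1) = v k := by simp [hermForm, Pi.single_apply]
      rw [hexp, hek, hke, hv] at h
      have hk3 : v k ^ 3 ≠ 0 := pow_ne_zero _ hk
      have key : (c + c ^ 2 * v k ^ 3) * v k ^ 3 + c ^ 3 * v k ^ 4 * hermForm 4 F 2 v v = 0 := by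
        rw [hv]
        linear_combination h
      rw [hv, mul_zero, add_zero, mul_eq_zero, or_iff_left hk3] at key
      have hv3 : v k ^ 3 = 1 := by
        have := FiniteField.pow_card_sub_one_eq_one (v k) hk
        rwa [hF] at this
      rwa [hv3, mul_one] at key
    have hc1 : c = 1 := by
      have : c * (1 + c) = 0 := by linear_combination hcc
      rcases mul_eq_zero.1 this with h | h
      · exact absurd h hc0
      · linear_combination h - h2
    rcases iVec_cover (e.symm (v 0)) (e.symm (v 1)) (e.symm (v 2)) (e.symm (v 3)) (e.injective (by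
        rw [← hherm, e0, ← hv]
        congr 1 <;> funext j <;> fin_cases j <;> simp)) with ⟨z0, z1, z2, z3⟩ | ⟨j, s, hs, s0, s1, s2, s3⟩
    · refine absurd ?_ hk
      fin_cases k
      · exact (e.symm_apply_eq.1 z0).trans e0
      · exact (e.symm_apply_eq.1 z1).trans e0
      · exact (e.symm_apply_eq.1 z2).trans e0
      · exact (e.symm_apply_eq.1 z3).trans e0
    refine ⟨j, fun i => ?_⟩
    have hvs : v = e s • fun k => e (iVec j k) := funext fun k => by
      show v k = e s * e (iVec j k)
      rw [← emul]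
      fin_cases k <;> simp [← s0, ← s1, ← s2, ← s3]
    obtain ⟨t, ht, htr⟩ := transvection_perm j i
    refine hρ' A i (pMap j i) (e t) ?_
    have hs3 : e s ^ 2 * e s = 1 := by
      have := FiniteField.pow_card_sub_one_eq_one (e s) fun h => hs (e.injective (h.trans e0.symm))
      rw [hF] at this
      rw [← this]; ring
    rw [hmv, hc1, one_mul, hvs]
    funext k
    show e (nVec i k) + hermForm 4 F 2 (rep i) (e s • fun k => e (iVec j k)) * (e s * e (iVec j k)) =
      e t * e (nVec (pMap j i) k)
    rw [← emul t, ← htr k, eadd, emul (herm4 _ _), ← hherm]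
    simp only [rep, hermForm, Fin.sum_univ_four, Pi.smul_apply, smul_eq_mul, mul_pow]
    linear_combination ((e (nVec i 0) * e (iVec j 0) ^ 2 + e (nVec i 1) * e (iVec j 1) ^ 2 +
      e (nVec i 2) * e (iVec j 2) ^ 2 + e (nVec i 3) * e (iVec j 3) ^ 2) * e (iVec j k)) * hs3

/-- The action on the points. -/
theorem exists_symplectic_action (hK : Fintype.card K = 3) :
    ∃ ρ : symplecticGroup (Fin 2) K →* Equiv.Perm (Fin 40),
      ρ.ker = Subgroup.center (symplecticGroup (Fin 2) K) ∧ ∀ j, ∃ g, ∀ i, ρ g i = pMap j i := by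
  classical
  haveI : Fact (Nat.Prime 3) := ⟨Nat.prime_three⟩
  haveI : CharP K 3 := charP_of_card_eq_prime hK
  let κ : ZMod 3 →+* K := ZMod.castHom dvd_rfl K
  have hκ : Function.Bijective κ :=
    (Fintype.bijective_iff_injective_and_card κ).2 ⟨κ.injective, by simp [hK]⟩
  let rep : Fin 40 → Fin 2 ⊕ Fin 2 → K := fun i k => κ (sVec i k)
  let act : symplecticGroup (Fin 2) K →* Matrix (Fin 2 ⊕ Fin 2) (Fin 2 ⊕ Fin 2) K :=
    { toFun := fun g => g.1, map_one' := rfl, map_mul' := fun _ _ => rfl }
  obtain ⟨ρ, hρ, hρ'⟩ := exists_line_hom act rep (fun v => v ≠ 0)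
    (fun i h => by
      obtain ⟨k, hk⟩ := sVec_ne i
      exact hk (κ.injective ((congrFun h k).trans (map_zero κ).symm)))
    (fun g v hv h => hv (by
      have := congrArg (fun w => (act g⁻¹) *ᵥ w) h
      simpa [Matrix.mulVec_mulVec, ← map_mul] using this))
    (fun v hv => by
      choose w hw using fun k => hκ.2 (v k)
      rcases sVec_cover (w (.inl 0)) (w (.inl 1)) (w (.inr 0)) (w (.inr 1)) with
        ⟨z0, z1, z2, z3⟩ | ⟨i, s, hs, s0, s1, s2, s3⟩
      · refine absurd (funext fun k => ?_) hv
        rw [← hw k]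
        rcases k with k | k <;> fin_cases k <;> simp [z0, z1, z2, z3]
      · refine ⟨i, κ s, fun h => hs (κ.injective (h.trans (map_zero κ).symm)), funext fun k => ?_⟩
        show v k = κ s * κ (sVec i k)
        rw [← map_mul, ← hw k]
        rcases k with k | k <;> fin_cases k <;> simp [s0, s1, s2, s3])
    (fun i j c h => by
      obtain ⟨s, rfl⟩ := hκ.2 c
      exact sVec_unique i j s fun k => κ.injective ((congrFun h k).trans (map_mul κ _ _).symm))
  refine ⟨ρ, le_antisymm (fun g hg => ?_) (fun g hg => ?_), fun j => ?_⟩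
  · obtain ⟨s25, s22, s1, s0, s7⟩ := sVec_special
    have hfix : ∀ i, ∃ d : K, act g *ᵥ rep i = d • rep i := fun i => by
      obtain ⟨d, -, hd⟩ := hρ g i
      rw [MonoidHom.mem_ker.1 hg, Equiv.Perm.one_apply] at hd
      exact ⟨d, hd⟩
    obtain ⟨d0, hd0⟩ := hfix 25
    obtain ⟨d1, hd1⟩ := hfix 22
    obtain ⟨d2, hd2⟩ := hfix 1
    obtain ⟨d3, hd3⟩ := hfix 0
    obtain ⟨a, ha⟩ := hfix 7
    have hd : ∀ i, act g *ᵥ Pi.single i 1 = Sum.elim ![d0, d1] ![d2, d3] i • (Pi.single i 1 : _ → K) := by
      rintro (i | i) <;> fin_cases i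
      · convert hd0 using 3 <;> first | rfl |
          (funext k; rcases k with k | k <;> fin_cases k <;> simp [rep, s25])
      · convert hd1 using 3 <;> first | rfl |
          (funext k; rcases k with k | k <;> fin_cases k <;> simp [rep, s22])
      · convert hd2 using 3 <;> first | rfl |
          (funext k; rcases k with k | k <;> fin_cases k <;> simp [rep, s1])
      · convert hd3 using 3 <;> first | rfl |
          (funext k; rcases k with k | k <;> fin_cases k <;> simp [rep, s0])
    have hall : ∀ k, Sum.elim ![d0, d1] ![d2, d3] k = a := fun k => eigen_eq _ _ hd ha (i := k) (by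
      rcases k with k | k <;> fin_cases k <;> simp [rep, s7])
    have hM : g.1 = a • (1 : Matrix (Fin 2 ⊕ Fin 2) (Fin 2 ⊕ Fin 2) K) := Matrix.ext fun i j => by
      have h := congrFun (hd j) i
      rw [Matrix.mulVec_single_one] at h
      simp only [Matrix.col_apply, Pi.smul_apply, smul_eq_mul, hall j] at h
      rw [show g.1 i j = act g i j from rfl, h, Matrix.smul_apply, Matrix.one_apply, Pi.single_apply, smul_eq_mul]
    exact Subgroup.mem_center_iff.2 fun y => Subtype.ext (by simp [hM])
  · refine MonoidHom.mem_ker.2 (Equiv.ext fun i => ?_)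
    rcases (mem_center_sp_iff g).1 hg with rfl | rfl
    · rw [map_one]
    · exact hρ' _ i i (-1) (by rw [show act spNegOne = (spNegOne (F := K) (m := 2)).1 from rfl, spNegOne_apply, neg_one_smul])
  · let g : symplecticGroup (Fin 2) K := ⟨(sMat j).map κ, by
      rw [SymplecticGroup.mem_iff]
      have h := congrArg κ.mapMatrix (sMat_mem j)
      rw [map_mul, map_mul] at h
      convert h using 1
      · simp only [RingHom.mapMatrix_apply, Matrix.transpose_map]
        congr 2
        simp [Matrix.J, Matrix.fromBlocks_map, Matrix.map_neg]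
      · simp [Matrix.J, Matrix.fromBlocks_map, Matrix.map_neg]⟩
    refine ⟨g, fun i => ?_⟩
    obtain ⟨s, hs, hk⟩ := sMat_perm j i
    refine hρ' g i _ (κ s) (funext fun k => ?_)
    show ∑ l, κ (sMat j k l) * κ (sVec i l) = κ s * κ (sVec (pMap j i) k)
    rw [← map_mul, ← hk k, map_sum]
    simp [map_mul]

theorem su_four_two (hF : Fintype.card F = 4) (hK : Fintype.card K = 3) :
    Nonempty (SU 4 F 2 ≃* PSp 2 K) := by
  classical
  obtain ⟨e, ρ₁, hinj, htr⟩ := exists_unitary_action hF
  obtain ⟨ρ₂, hker, hex⟩ := exists_symplectic_action hK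
  have hF' : Fintype.card F = 2 ^ 2 := hF
  have hle : ρ₁.range ≤ ρ₂.range := by
    rw [MonoidHom.range_eq_map, ← CfsgLib.Classical.Unitary.su_closure_transvections hF' (n := 4) (by norm_num) (by norm_num),
      Subgroup.map_le_iff_le_comap, Subgroup.closure_le]
    rintro A ⟨v, c, hv, hA⟩
    rcases htr A v c hv hA with rfl | ⟨j, hj⟩
    · exact one_mem _
    · obtain ⟨g, hg⟩ := hex j
      exact ⟨g, Equiv.ext fun i => (hg i).trans (hj i).symm⟩
  have c1 : Nat.card ρ₁.range = 25920 := by
    rw [← Nat.card_congr (MonoidHom.ofInjective hinj).toEquiv]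
    have h := card_su (F := F) (n := 4) hF' (by norm_num)
    rw [unitaryOrder, Finset.prod_range_succ, Finset.prod_range_succ, Finset.prod_range_succ,
      Finset.prod_range_succ, Finset.prod_range_zero] at h
    norm_num [Nat.even_iff] at h
    rw [Nat.card_eq_fintype_card]
    omega
  have c2 : Nat.card ρ₂.range = 25920 := by
    have h := Subgroup.card_mul_index ρ₂.ker
    rw [Subgroup.index_ker, hker, card_sp 2, hK, Finset.prod_range_succ, Finset.prod_range_succ,
      Finset.prod_range_zero] at h
    have hc : Nat.card (Subgroup.center (symplecticGroup (Fin 2) K)) = 2 := by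
      have hne : (spNegOne : symplecticGroup (Fin 2) K) ≠ 1 := fun h => by
        have h2 : ((2 : ℕ) : K) = 0 := by exact_mod_cast (spNegOne_eq_one_iff (by norm_num)).1 h
        haveI : CharP K 3 := charP_of_card_eq_prime (p := 3) hK
        rw [CharP.cast_eq_zero_iff K 3] at h2
        norm_num at h2
      rw [Nat.card_eq_two_iff' ⟨1, one_mem _⟩]
      refine ⟨⟨spNegOne, spNegOne_mem_center⟩, fun h => hne (congrArg Subtype.val h), fun y hy => ?_⟩
      rcases (mem_center_sp_iff y.1).1 y.2 with h | h
      · exact absurd (Subtype.ext h) hy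
      · exact Subtype.ext h
    rw [hc] at h
    generalize Nat.card ρ₂.range = N at h ⊢
    norm_num at h
    omega
  have heq : ρ₁.range = ρ₂.range := Subgroup.eq_of_le_of_card_ge hle (by rw [c1, c2])
  exact ⟨((MonoidHom.ofInjective hinj).trans (MulEquiv.subgroupCongr heq)).trans
    ((QuotientGroup.quotientKerEquivRange ρ₂).symm.trans (QuotientGroup.quotientMulEquivOfEq hker))⟩

end

end CfsgLib.Classical.SmallIso.UFour
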